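import Mathlib

set_option autoImplicit false

namespace Cfsg.Agent.Helper9

/-- Fitting decomposition for a coprime group of automorphisms of a finite abelian group:
`V = C_V(A) × [V, A]`. -/
theorem coprime_abelian_decomp {V : Type*} [Group V] [Finite V] (hc : ∀ x y : V, x * y = y * x)
    (A : Subgroup (MulAut V)) (hcop : (Nat.card A).Coprime (Nat.card V))
    (C D : Subgroup V) (hC : ∀ x : V, x ∈ C ↔ ∀ α ∈ A, α x = x)
    (hD : D = Subgroup.closure {y : V | ∃ x : V, ∃ α ∈ A, y = x⁻¹ * α x}) :
    C ⊓ D = ⊥ ∧ C ⊔ D = ⊤ := by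
  classical
  let _ : CommGroup V := { ‹Group V› with mul_comm := hc }
  have : Finite (MulAut V) := MulEquiv.finite_left
  have : Fintype A := Fintype.ofFinite A
  set n : ℕ := Nat.card A with hn
  have hn' : Fintype.card A = n := by rw [hn, Nat.card_eq_fintype_card]
  let N : V → V := fun x => ∏ α : A, (α : MulAut V) x
  have hN_mul : ∀ x y : V, N (x * y) = N x * N y := by
    intro x y
    simp only [N, map_mul]
    exact Finset.prod_mul_distrib
  have hN_one : N 1 = 1 := by
    simp only [N, map_one]
    exact Finset.prod_const_one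
  have hN_inv : ∀ x : V, N x⁻¹ = (N x)⁻¹ := by
    intro x
    have h := hN_mul x x⁻¹
    rw [mul_inv_cancel, hN_one] at h
    exact (inv_eq_of_mul_eq_one_right h.symm).symm
  have hN_fix : ∀ (β : A) (x : V), (β : MulAut V) (N x) = N x := by
    intro β x
    simp only [N, map_prod]
    exact Equiv.prod_comp (Equiv.mulLeft β) (fun α : A => (α : MulAut V) x)
  have hN_twist : ∀ (β : A) (x : V), N ((β : MulAut V) x) = N x := by
    intro β x
    simp only [N]
    exact Equiv.prod_comp (Equiv.mulRight β) (fun α : A => (α : MulAut V) x)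
  have hN_C : ∀ x ∈ C, N x = x ^ n := by
    intro x hx
    simp only [N]
    rw [Finset.prod_congr rfl (fun (α : A) _ => (hC x).mp hx (α : MulAut V) α.2), Finset.prod_const, Finset.card_univ, hn']
  have hN_D : ∀ y ∈ D, N y = 1 := by
    intro y hy
    rw [hD] at hy
    induction hy using Subgroup.closure_induction with
    | mem y hy =>
      obtain ⟨x, α, hα, rfl⟩ := hy
      rw [hN_mul, hN_inv, hN_twist ⟨α, hα⟩ x, inv_mul_cancel]
    | one => exact hN_one
    | mul x y _ _ hx hy => rw [hN_mul, hx, hy, one_mul]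
    | inv x _ hx => rw [hN_inv, hx, inv_one]
  have hN_memC : ∀ x : V, N x ∈ C := by
    intro x
    rw [hC]
    intro β hβ
    exact hN_fix ⟨β, hβ⟩ x
  constructor
  · rw [eq_bot_iff]
    intro x hx
    obtain ⟨hxC, hxD⟩ := Subgroup.mem_inf.mp hx
    have h1 : x ^ n = 1 := by rw [← hN_C x hxC, hN_D x hxD]
    have h2 : orderOf x ∣ n := orderOf_dvd_of_pow_eq_one h1
    have h3 : orderOf x ∣ Nat.card V := orderOf_dvd_natCard x
    have h4 : orderOf x ∣ 1 := by
      have := Nat.dvd_gcd h2 h3
      rwa [hcop] at this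
    rw [Subgroup.mem_bot]
    exact orderOf_eq_one_iff.mp (Nat.dvd_one.mp h4)
  · rw [eq_top_iff]
    intro x _
    have hpow : x ^ n ∈ C ⊔ D := by
      have h1 : x ^ n = N x * ∏ α : A, (((α : MulAut V) x)⁻¹ * x) := by
        rw [← Finset.prod_mul_distrib]
        simp only [mul_inv_cancel_left]
        rw [Finset.prod_const, Finset.card_univ, hn']
      rw [h1]
      apply Subgroup.mul_mem _ (Subgroup.mem_sup_left (hN_memC x))
      apply Subgroup.mem_sup_right
      apply Subgroup.prod_mem
      intro α _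
      rw [hD]
      apply Subgroup.subset_closure
      refine ⟨(α : MulAut V) x, (α : MulAut V)⁻¹, A.inv_mem α.2, ?_⟩
      simp
    have hco : n.Coprime (orderOf x) := Nat.Coprime.coprime_dvd_right (orderOf_dvd_natCard x) hcop
    obtain ⟨m, hm⟩ := exists_pow_eq_self_of_coprime hco
    rw [← hm]
    exact Subgroup.pow_mem _ hpow m

end Cfsg.Agent.Helper9
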