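import Mathlib
import Cfsg.Agent.Helper9.FusionAbelian
import Cfsg.Agent.Helper9.CoprimeAbelian

set_option autoImplicit false

namespace Cfsg.Agent.Helper9

open Cfsg

variable {Ω : Type*} [Group Ω] {S : Subgroup Ω}

/-- Over an abelian `S`, `S` is normal in every saturated fusion system. -/
theorem abelian_normal_top [Finite S] (p : ℕ) [Fact p.Prime] (hS : IsPGroup p S)
    (F : FusionSystem S) (hF : F.IsSaturated p) (hab : ∀ x ∈ S, ∀ y ∈ S, x * y = y * x) :
    F.IsNormal S := by
  apply Helper8.normal_of_autGroup_invariant p hS F hF S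
  intro P hP
  have hPS : P = S := by
    rcases hP with h | hess
    · exact h
    · obtain ⟨hcen, -, -⟩ := hess
      have h1 := hcen.2 P (Helper8.isConj_refl F hcen.1)
      apply le_antisymm hcen.1
      intro s hs
      apply h1
      refine Subgroup.mem_inf.mpr ⟨hs, ?_⟩
      rw [Subgroup.mem_centralizer_iff]
      intro q hq
      exact hab q (hcen.1 hq) s hs
  subst hPS
  refine ⟨le_rfl, fun α _ => ?_⟩
  rw [Subgroup.subgroupOf_self]
  exact Subgroup.map_top_of_surjective _ α.surjective

/-- Every map of a system in which `S` is normal is the restriction of an automorphism of `S`. -/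
theorem frattini_of_normal_top (F : FusionSystem S) (hN : F.IsNormal S)
    (P : Subgroup Ω) (hP : P ≤ S) (φ : P →* Ω) (hφ : φ ∈ F.Hom P) :
    ∃ α ∈ F.autGroup S, ∀ x : P, φ x = ((α ⟨x, hP x.2⟩ : S) : Ω) := by
  obtain ⟨ψ, hψ, hext, hmap⟩ := hN.2 P φ hφ
  refine ⟨Helper8.autOfMapEq le_sup_right ψ (F.injective_of_mem hψ) hmap, ?_, ?_⟩
  · rw [Helper8.mem_autGroup_iff F le_rfl]
    exact Helper8.restrict_mem' F hψ le_sup_right (fun x => rfl)
  · intro x
    rw [← hext x]
    rfl

/-- Over an abelian `S`, `Aut_F(S)` has order prime to `p`. -/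
theorem abelian_autGroup_coprime [Finite S] (p : ℕ) [Fact p.Prime] (hS : IsPGroup p S)
    (F : FusionSystem S) (hF : F.IsSaturated p) (hab : ∀ x ∈ S, ∀ y ∈ S, x * y = y * x) :
    (Nat.card (F.autGroup S)).Coprime (Nat.card S) := by
  have : Finite (MulAut S) := MulEquiv.finite_left
  obtain ⟨-, R, hR⟩ := (Helper8.fullyNormalized_props p hS F hF (Helper8.isFullyNormalized_top F)).2
  have hbot : autInducedBy S S = ⊥ := by
    unfold autInducedBy
    rw [Subgroup.closure_eq_bot_iff]
    rintro α ⟨g, hg, h⟩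
    rw [Set.mem_singleton_iff]
    ext x
    rw [h x]
    have := hab g hg x x.2
    rw [this]
    simp
  rw [hbot, Subgroup.bot_subgroupOf] at hR
  have h1 := R.not_dvd_index
  rw [hR, Subgroup.index_bot] at h1
  obtain ⟨k, hk⟩ := IsPGroup.iff_card.mp hS
  rw [hk]
  exact Nat.Coprime.pow_right k (((Fact.out : p.Prime).coprime_iff_not_dvd.mpr h1).symm)

end Cfsg.Agent.Helper9
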