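import Mathlib
import Cfsg.Agent.Helper1.Golay12
import Cfsg.Prelude.Def_Spor_Mathieu

set_option autoImplicit false

namespace Cfsg.Agent.Helper9

open Cfsg Cfsg.Agent.Helper1.Golay
open scoped Pointwise

theorem mem_conj_smul_iff9 {G : Type*} [Group G] (g y : G) (H : Subgroup G) :
    y ∈ MulAut.conj g • H ↔ g⁻¹ * y * g ∈ H := by
  rw [Subgroup.mem_pointwise_smul_iff_inv_smul_mem]
  simp [MulAut.smul_def]

theorem squareDodecad_mem : Spor.squareDodecad ∈ dodecads :=
  ⟨⟨qrWord 0, qrWord_mem 0, rfl⟩, by decide +kernel⟩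

theorem zero_mem_squareDodecad : (some 0 : GolayPt) ∈ Spor.squareDodecad := by decide +kernel

theorem none_notMem_squareDodecad : (none : GolayPt) ∉ Spor.squareDodecad := by decide +kernel

theorem five_notMem_squareDodecad : (some 5 : GolayPt) ∉ Spor.squareDodecad := by decide +kernel

theorem seven_notMem_squareDodecad : (some 7 : GolayPt) ∉ Spor.squareDodecad := by decide +kernel

/-- The complement of a dodecad is a dodecad. -/
theorem compl_dodecad {d : Finset GolayPt} (hd : d ∈ dodecads) : Finset.univ \ d ∈ dodecads := by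
  obtain ⟨⟨v, hv, rfl⟩, hc⟩ := hd
  refine ⟨⟨1 + v, Submodule.add_mem _ (Submodule.subset_span (Or.inr rfl)) hv, ?_⟩, ?_⟩
  · ext p
    simp only [support₂, Finset.mem_filter, Finset.mem_univ, true_and, Pi.add_apply, Pi.one_apply,
      Finset.mem_sdiff]
    exact (by decide : ∀ x : ZMod 2, 1 + x ≠ 0 ↔ ¬ x ≠ 0) _
  · rw [Finset.card_sdiff_of_subset (Finset.subset_univ _), hc, Finset.card_univ, card_golayPt]

theorem smul_compl_iff (y : Equiv.Perm GolayPt) (D : Finset GolayPt) :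
    y • (Finset.univ \ D) = Finset.univ \ D ↔ y • D = D := by
  rw [Finset.smul_finset_sdiff, Finset.smul_finset_univ]
  constructor
  · intro h
    have h1 : (Finset.univ \ (Finset.univ \ y • D)) = Finset.univ \ (Finset.univ \ D) := by rw [h]
    simpa using h1
  · intro h
    rw [h]

theorem mem_M12_iff (x : Equiv.Perm GolayPt) :
    x ∈ Spor.M12 ↔ x ∈ M24 ∧ x • Spor.squareDodecad = Spor.squareDodecad := by
  unfold Spor.M12
  exact Subgroup.mem_inf

theorem mem_M11_iff (x : Equiv.Perm GolayPt) :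
    x ∈ Spor.M11 ↔ x ∈ M24 ∧ x • Spor.squareDodecad = Spor.squareDodecad ∧ x (some 0) = some 0 := by
  unfold Spor.M11
  rw [Subgroup.mem_inf, mem_M12_iff]
  exact ⟨fun h => ⟨h.1.1, h.1.2, h.2⟩, fun h => ⟨⟨h.1, h.2.1⟩, h.2.2⟩⟩

/-- Conjugating `M11` by an element of `M24`. -/
theorem mem_conj_M11_iff {g : Equiv.Perm GolayPt} (hg : g ∈ M24) (y : Equiv.Perm GolayPt) :
    y ∈ MulAut.conj g • Spor.M11 ↔
      y ∈ M24 ∧ y • (g • Spor.squareDodecad) = g • Spor.squareDodecad ∧
        y (g (some 0)) = g (some 0) := by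
  rw [mem_conj_smul_iff9, mem_M11_iff]
  constructor
  · rintro ⟨h1, h2, h3⟩
    refine ⟨?_, ?_, ?_⟩
    · have h4 := mul_mem (mul_mem hg h1) (inv_mem hg)
      have h5 : g * (g⁻¹ * y * g) * g⁻¹ = y := by group
      rwa [h5] at h4
    · rw [mul_smul, mul_smul] at h2
      rw [inv_smul_eq_iff] at h2
      exact h2
    · rw [Equiv.Perm.mul_apply, Equiv.Perm.mul_apply, Equiv.Perm.inv_eq_iff_eq] at h3
      exact h3
  · rintro ⟨h1, h2, h3⟩
    refine ⟨mul_mem (mul_mem (inv_mem hg) h1) hg, ?_, ?_⟩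
    · rw [mul_smul, mul_smul, inv_smul_eq_iff]
      exact h2
    · rw [Equiv.Perm.mul_apply, Equiv.Perm.mul_apply, Equiv.Perm.inv_eq_iff_eq]
      exact h3

end Cfsg.Agent.Helper9
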