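import Mathlib
import Cfsg.Agent.Helper1.Golay12

set_option autoImplicit false

namespace Cfsg.Agent.Helper9

open Cfsg Cfsg.Agent.Helper1.Golay
open scoped Pointwise

/-- For a permutation of prime order `p` and an invariant finite set, the number of moved points
of the set is divisible by `p`. -/
theorem card_moved_dvd {α : Type*} [Fintype α] [DecidableEq α] (g : Equiv.Perm α) (s : Finset α)
    (hs : ∀ a, g a ∈ s ↔ a ∈ s) (p : ℕ) [hp : Fact p.Prime] (hg : g ^ p = 1) :
    p ∣ (s.filter (fun a => g a ≠ a)).card := by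
  classical
  let σ : Equiv.Perm α :=
    Equiv.Perm.ofSubtype (g.subtypePerm (p := fun a => a ∈ s) (fun a => hs a))
  have hσ1 : ∀ a, a ∈ s → σ a = g a := by
    intro a ha
    show Equiv.Perm.ofSubtype _ a = g a
    rw [Equiv.Perm.ofSubtype_apply_of_mem _ ha]
    rfl
  have hσ2 : ∀ a, a ∉ s → σ a = a := by
    intro a ha
    exact Equiv.Perm.ofSubtype_apply_of_not_mem _ ha
  have hpow : ∀ k : ℕ, ∀ a, (σ ^ k) a = if a ∈ s then (g ^ k) a else a := by
    intro k
    induction k with
    | zero =>
      intro a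
      simp
    | succ k ih =>
      intro a
      rw [pow_succ, Equiv.Perm.mul_apply, pow_succ, Equiv.Perm.mul_apply]
      by_cases ha : a ∈ s
      · rw [hσ1 a ha, ih, if_pos ((hs a).mpr ha), if_pos ha]
      · rw [hσ2 a ha, ih, if_neg ha, if_neg ha]
  have hσp : σ ^ p ^ 1 = 1 := by
    rw [pow_one]
    ext a
    rw [hpow p a, hg]
    simp
  have h1 := Equiv.Perm.card_compl_support_modEq hσp
  have hsupp : σ.support = s.filter (fun a => g a ≠ a) := by
    ext a
    rw [Equiv.Perm.mem_support, Finset.mem_filter]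
    by_cases ha : a ∈ s
    · rw [hσ1 a ha]
      exact ⟨fun h => ⟨ha, h⟩, fun h => h.2⟩
    · rw [hσ2 a ha]
      exact ⟨fun h => absurd rfl h, fun h => absurd h.1 ha⟩
  rw [Finset.card_compl, hsupp] at h1
  have h2 := (Nat.modEq_iff_dvd' (Nat.sub_le _ _)).mp h1
  rwa [Nat.sub_sub_self (Finset.card_le_univ _)] at h2

/-- Generic double counting. -/
theorem double_count9 {A B : Type*} (s : Finset A) (t : Finset B) (r : A → B → Prop)
    [∀ a b, Decidable (r a b)] (m k : ℕ) (h1 : ∀ a ∈ s, (t.filter (fun b => r a b)).card = m)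
    (h2 : ∀ b ∈ t, (s.filter (fun a => r a b)).card = k) : s.card * m = t.card * k := by
  have h := Finset.sum_card_bipartiteAbove_eq_sum_card_bipartiteBelow (s := s) (t := t) r
  have e1 : ∑ a ∈ s, (t.bipartiteAbove r a).card = s.card * m := by
    have e : ∀ a ∈ s, (t.bipartiteAbove r a).card = m := fun a ha => h1 a ha
    rw [Finset.sum_congr rfl e, Finset.sum_const, smul_eq_mul]
  have e2 : ∑ b ∈ t, (s.bipartiteBelow r b).card = t.card * k := by
    have e : ∀ b ∈ t, (s.bipartiteBelow r b).card = k := fun b hb => h2 b hb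
    rw [Finset.sum_congr rfl e, Finset.sum_const, smul_eq_mul]
  rw [← e1, ← e2]
  exact h

theorem card_five9 {α : Type*} [DecidableEq α] {a b c d e : α} (hab : a ≠ b) (hac : a ≠ c)
    (had : a ≠ d) (hae : a ≠ e) (hbc : b ≠ c) (hbd : b ≠ d) (hbe : b ≠ e) (hcd : c ≠ d)
    (hce : c ≠ e) (hde : d ≠ e) : ({a, b, c, d, e} : Finset α).card = 5 := by
  rw [Finset.card_insert_of_notMem (by simp [*]), Finset.card_insert_of_notMem (by simp [*]),
    Finset.card_insert_of_notMem (by simp [*]), Finset.card_pair hde]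

/-- The octad through an invariant 5-set is invariant. -/
theorem inv_octad_of_five {g : Equiv.Perm GolayPt} (hg : g ∈ M24) {S O : Finset GolayPt}
    (hO : O ∈ octads) (hSO : S ⊆ O) (hS5 : 5 ≤ S.card) (hgS : ∀ a ∈ S, g a ∈ S) : g • O = O := by
  have hgS' : g • S = S := by
    apply Finset.eq_of_subset_of_card_le
    · intro x hx
      obtain ⟨a, ha, rfl⟩ := Finset.mem_smul_finset.mp hx
      exact hgS a ha
    · rw [Finset.card_smul_finset]
  apply octads_unique (smul_octad_mem hg hO) hO
  refine le_trans hS5 (Finset.card_le_card ?_)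
  intro x hx
  rw [Finset.mem_inter]
  refine ⟨?_, hSO hx⟩
  rw [← hgS'] at hx
  exact Finset.smul_finset_subset_smul_finset hSO hx

theorem mem_iff_of_smul_eq {g : Equiv.Perm GolayPt} {O : Finset GolayPt} (h : g • O = O)
    (a : GolayPt) : g a ∈ O ↔ a ∈ O := by
  constructor
  · intro ha
    rw [← h] at ha
    obtain ⟨b, hb, hba⟩ := Finset.mem_smul_finset.mp ha
    have h1 : b = a := g.injective hba
    rwa [← h1]
  · intro ha
    rw [← h]
    exact Finset.smul_mem_smul_finset ha

/-- Fixed and moved points of an octad add up to 8. -/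
theorem octad_fix_add_moved (g : Equiv.Perm GolayPt) {O : Finset GolayPt} (hO : O ∈ octads) :
    (O.filter (fun a => g a = a)).card + (O.filter (fun a => g a ≠ a)).card = 8 := by
  have h := Finset.card_filter_add_card_filter_not (s := O) (fun a => g a = a)
  rw [hO.2] at h
  exact h

end Cfsg.Agent.Helper9
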