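import Mathlib
import Cfsg.Agent.Helper9.M24Fix

set_option autoImplicit false

namespace Cfsg.Agent.Helper9

open Cfsg Cfsg.Agent.Helper1.Golay
open scoped Pointwise

/-- An element of order 3 of `M24` cannot have exactly three fixed points. -/
theorem no_three_fixed {g : Equiv.Perm GolayPt} (hg : g ∈ M24) (h3 : g ^ 3 = 1)
    (hf : (Finset.univ.filter (fun a => g a = a)).card = 3) : False := by
  classical
  have : Fact (Nat.Prime 3) := ⟨by norm_num⟩
  obtain ⟨p0, p1, p2, h01, h02, h12, hFix⟩ := Finset.card_eq_three.mp hf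
  have hp0 : g p0 = p0 := by
    have h : p0 ∈ Finset.univ.filter (fun a => g a = a) := by rw [hFix]; simp
    exact (Finset.mem_filter.mp h).2
  have hp1 : g p1 = p1 := by
    have h : p1 ∈ Finset.univ.filter (fun a => g a = a) := by rw [hFix]; simp
    exact (Finset.mem_filter.mp h).2
  have hXcard : (Finset.univ.filter (fun a => g a ≠ a)).card = 21 := by
    have h := Finset.card_filter_add_card_filter_not (s := (Finset.univ : Finset GolayPt))
      (fun a => g a = a)
    rw [hf, Finset.card_univ, card_golayPt] at h
    change 3 + (Finset.univ.filter (fun a => g a ≠ a)).card = 24 at h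
    omega
  have hg3 : ∀ a, g (g (g a)) = a := by
    intro a
    have h := congrArg (fun f : Equiv.Perm GolayPt => f a) h3
    simpa [pow_succ] using h
  have key := double_count9 (Finset.univ.filter (fun a => g a ≠ a))
    ((Finset.univ : Finset (Finset GolayPt)).filter
      (fun O => O ∈ octads ∧ g • O = O ∧ p0 ∈ O ∧ p1 ∈ O))
    (fun a O => a ∈ O) 1 6 ?_ ?_
  · rw [hXcard] at key
    omega
  · intro a ha
    have hga : g a ≠ a := (Finset.mem_filter.mp ha).2
    have hgga : g (g a) ≠ a := fun h => hga (by
      have h1 := hg3 a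
      rw [h] at h1
      exact h1)
    have hgga' : g (g a) ≠ g a := fun h => hga (g.injective h)
    have n0 : ∀ b, g b ≠ b → p0 ≠ b := fun b hb h => hb (by rw [← h]; exact hp0)
    have n1 : ∀ b, g b ≠ b → p1 ≠ b := fun b hb h => hb (by rw [← h]; exact hp1)
    have hgm : g (g a) ≠ a := hgga
    have m1 : g (g a) ≠ g a := hgga'
    have m2 : g (g (g a)) ≠ g (g a) := fun h => hgga' (g.injective h)
    have hScard : ({p0, p1, a, g a, g (g a)} : Finset GolayPt).card = 5 :=
      card_five9 h01 (n0 a hga) (n0 (g a) m1) (n0 (g (g a)) m2) (n1 a hga) (n1 (g a) m1)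
        (n1 (g (g a)) m2) (Ne.symm hga) (Ne.symm hgga) (Ne.symm hgga')
    obtain ⟨O, ⟨hO, hSO⟩, hOuniq⟩ := octads_steiner.2 _ hScard
    have hOinv : g • O = O := by
      apply inv_octad_of_five hg hO hSO (le_of_eq hScard.symm)
      intro x hx
      simp only [Finset.mem_insert, Finset.mem_singleton] at hx ⊢
      rcases hx with rfl | rfl | rfl | rfl | rfl
      · left; exact hp0
      · right; left; exact hp1
      · right; right; right; left; rfl
      · right; right; right; right; rfl
      · right; right; left; exact hg3 a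
    rw [Finset.card_eq_one]
    refine ⟨O, Finset.eq_singleton_iff_unique_mem.mpr ⟨?_, ?_⟩⟩
    · refine Finset.mem_filter.mpr ⟨Finset.mem_filter.mpr ⟨Finset.mem_univ _, hO, hOinv,
        hSO (by simp), hSO (by simp)⟩, hSO (by simp)⟩
    · intro O' hO'
      obtain ⟨hO'𝒪, haO'⟩ := Finset.mem_filter.mp hO'
      obtain ⟨-, hO'oct, hO'inv, hp0O', hp1O'⟩ := Finset.mem_filter.mp hO'𝒪
      apply hOuniq O'
      refine ⟨hO'oct, ?_⟩
      intro x hx
      simp only [Finset.mem_insert, Finset.mem_singleton] at hx
      rcases hx with rfl | rfl | rfl | rfl | rfl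
      · exact hp0O'
      · exact hp1O'
      · exact haO'
      · exact (mem_iff_of_smul_eq hO'inv _).mpr haO'
      · exact (mem_iff_of_smul_eq hO'inv _).mpr ((mem_iff_of_smul_eq hO'inv _).mpr haO')
  · intro O hO
    obtain ⟨-, hOoct, hOinv, hp0O, hp1O⟩ := Finset.mem_filter.mp hO
    have e1 : (Finset.univ.filter (fun a => g a ≠ a)).filter (fun a => a ∈ O)
        = O.filter (fun a => g a ≠ a) := by
      ext a
      simp only [Finset.mem_filter, Finset.mem_univ, true_and]
      tauto
    rw [e1]
    have hdvd : 3 ∣ (O.filter (fun a => g a ≠ a)).card :=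
      card_moved_dvd g O (mem_iff_of_smul_eq hOinv) 3 h3
    have hsum := octad_fix_add_moved g hOoct
    have hge : 2 ≤ (O.filter (fun a => g a = a)).card := by
      have hsub : ({p0, p1} : Finset GolayPt) ⊆ O.filter (fun a => g a = a) := by
        intro x hx
        simp only [Finset.mem_insert, Finset.mem_singleton] at hx
        rcases hx with rfl | rfl
        · exact Finset.mem_filter.mpr ⟨hp0O, hp0⟩
        · exact Finset.mem_filter.mpr ⟨hp1O, hp1⟩
      have h := Finset.card_le_card hsub
      rwa [Finset.card_pair h01] at h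
    have hle : (O.filter (fun a => g a = a)).card ≤ 3 := by
      have hsub : O.filter (fun a => g a = a) ⊆ Finset.univ.filter (fun a => g a = a) :=
        Finset.filter_subset_filter _ (Finset.subset_univ _)
      have h := Finset.card_le_card hsub
      rwa [hf] at h
    omega

/-- For an involution of `M24`: the octad through a fixed point and two 2-cycles. -/
theorem inv_five {g : Equiv.Perm GolayPt} (hg : g ∈ M24) (hg2 : ∀ a, g (g a) = a)
    {p0 a0 b : GolayPt} (hp0 : g p0 = p0) (ha : g a0 ≠ a0) (hb : g b ≠ b) (hba : b ≠ a0)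
    (hbga : b ≠ g a0) :
    ∃ O ∈ octads, g • O = O ∧ p0 ∈ O ∧ a0 ∈ O ∧ b ∈ O ∧
      ∀ O' ∈ octads, g • O' = O' → p0 ∈ O' → a0 ∈ O' → b ∈ O' → O' = O := by
  classical
  have n0 : ∀ c, g c ≠ c → p0 ≠ c := fun c hc h => hc (by rw [← h]; exact hp0)
  have ha' : g (g a0) ≠ g a0 := fun h => ha (g.injective h)
  have hb' : g (g b) ≠ g b := fun h => hb (g.injective h)
  have hgb1 : a0 ≠ g b := fun h => hbga (by rw [h, hg2])
  have hgb2 : g a0 ≠ g b := fun h => hba (g.injective h).symm
  have hScard : ({p0, a0, g a0, b, g b} : Finset GolayPt).card = 5 :=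
    card_five9 (n0 a0 ha) (n0 (g a0) ha') (n0 b hb) (n0 (g b) hb') (Ne.symm ha) (Ne.symm hba)
      hgb1 (Ne.symm hbga) hgb2 (Ne.symm hb)
  obtain ⟨O, ⟨hO, hSO⟩, hOuniq⟩ := octads_steiner.2 _ hScard
  have hOinv : g • O = O := by
    apply inv_octad_of_five hg hO hSO (le_of_eq hScard.symm)
    intro x hx
    simp only [Finset.mem_insert, Finset.mem_singleton] at hx ⊢
    rcases hx with rfl | rfl | rfl | rfl | rfl
    · left; exact hp0
    · right; right; left; rfl
    · right; left; exact hg2 _
    · right; right; right; right; rfl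
    · right; right; right; left; exact hg2 _
  refine ⟨O, hO, hOinv, hSO (by simp), hSO (by simp), hSO (by simp), ?_⟩
  intro O' hO' hO'inv h0 h1 h2
  apply hOuniq O'
  refine ⟨hO', ?_⟩
  intro x hx
  simp only [Finset.mem_insert, Finset.mem_singleton] at hx
  rcases hx with rfl | rfl | rfl | rfl | rfl
  · exact h0
  · exact h1
  · exact (mem_iff_of_smul_eq hO'inv _).mpr h1
  · exact h2
  · exact (mem_iff_of_smul_eq hO'inv _).mpr h2

/-- An involution of `M24` cannot have exactly two fixed points. -/
theorem no_two_fixed {g : Equiv.Perm GolayPt} (hg : g ∈ M24) (h2 : g ^ 2 = 1)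
    (hf : (Finset.univ.filter (fun a => g a = a)).card = 2) : False := by
  classical
  have : Fact (Nat.Prime 2) := ⟨by norm_num⟩
  obtain ⟨p0, p1, h01, hFix⟩ := Finset.card_eq_two.mp hf
  have hp0 : g p0 = p0 := by
    have h : p0 ∈ Finset.univ.filter (fun a => g a = a) := by rw [hFix]; simp
    exact (Finset.mem_filter.mp h).2
  have hXcard : (Finset.univ.filter (fun a => g a ≠ a)).card = 22 := by
    have h := Finset.card_filter_add_card_filter_not (s := (Finset.univ : Finset GolayPt))
      (fun a => g a = a)
    rw [hf, Finset.card_univ, card_golayPt] at h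
    change 2 + (Finset.univ.filter (fun a => g a ≠ a)).card = 24 at h
    omega
  have hg2 : ∀ a, g (g a) = a := by
    intro a
    have h := congrArg (fun f : Equiv.Perm GolayPt => f a) h2
    simpa [pow_succ] using h
  -- every invariant octad through p0 has exactly six moved points
  have hsix : ∀ O ∈ ((Finset.univ : Finset (Finset GolayPt)).filter
      (fun O => O ∈ octads ∧ g • O = O ∧ p0 ∈ O)),
      ((Finset.univ.filter (fun a => g a ≠ a)).filter (fun a => a ∈ O)).card = 6 := by
    intro O hO
    obtain ⟨-, hOoct, hOinv, hp0O⟩ := Finset.mem_filter.mp hO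
    have e1 : (Finset.univ.filter (fun a => g a ≠ a)).filter (fun a => a ∈ O)
        = O.filter (fun a => g a ≠ a) := by
      ext a
      simp only [Finset.mem_filter, Finset.mem_univ, true_and]
      tauto
    rw [e1]
    have hdvd : 2 ∣ (O.filter (fun a => g a ≠ a)).card :=
      card_moved_dvd g O (mem_iff_of_smul_eq hOinv) 2 h2
    have hsum := octad_fix_add_moved g hOoct
    have hge : 1 ≤ (O.filter (fun a => g a = a)).card :=
      Finset.card_pos.mpr ⟨p0, Finset.mem_filter.mpr ⟨hp0O, hp0⟩⟩
    have hle : (O.filter (fun a => g a = a)).card ≤ 2 := by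
      have hsub : O.filter (fun a => g a = a) ⊆ Finset.univ.filter (fun a => g a = a) :=
        Finset.filter_subset_filter _ (Finset.subset_univ _)
      have h := Finset.card_le_card hsub
      rwa [hf] at h
    omega
  -- every moved point lies in exactly five such octads
  have hfive : ∀ a0 ∈ Finset.univ.filter (fun a => g a ≠ a),
      (((Finset.univ : Finset (Finset GolayPt)).filter
        (fun O => O ∈ octads ∧ g • O = O ∧ p0 ∈ O)).filter (fun O => a0 ∈ O)).card = 5 := by
    intro a0 ha0
    have ha : g a0 ≠ a0 := (Finset.mem_filter.mp ha0).2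
    have ha' : g (g a0) ≠ g a0 := fun h => ha (g.injective h)
    have key := double_count9
      ((Finset.univ.filter (fun a => g a ≠ a)).filter (fun b => b ≠ a0 ∧ b ≠ g a0))
      (((Finset.univ : Finset (Finset GolayPt)).filter
        (fun O => O ∈ octads ∧ g • O = O ∧ p0 ∈ O)).filter (fun O => a0 ∈ O))
      (fun b O => b ∈ O) 1 4 ?_ ?_
    · have hs1 : ((Finset.univ.filter (fun a => g a ≠ a)).filter
          (fun b => b ≠ a0 ∧ b ≠ g a0)).card = 20 := by
        have e : (Finset.univ.filter (fun a => g a ≠ a)).filter (fun b => b ≠ a0 ∧ b ≠ g a0)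
            = (Finset.univ.filter (fun a => g a ≠ a)) \ {a0, g a0} := by
          ext b
          simp only [Finset.mem_filter, Finset.mem_univ, true_and, Finset.mem_sdiff,
            Finset.mem_insert, Finset.mem_singleton, not_or]
        rw [e, Finset.card_sdiff_of_subset, hXcard, Finset.card_pair (Ne.symm ha)]
        intro x hx
        simp only [Finset.mem_insert, Finset.mem_singleton] at hx
        rcases hx with rfl | rfl
        · exact ha0
        · exact Finset.mem_filter.mpr ⟨Finset.mem_univ _, ha'⟩
      rw [hs1] at key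
      omega
    · intro b hb
      obtain ⟨hbX, hba, hbga⟩ := Finset.mem_filter.mp hb
      have hb' : g b ≠ b := (Finset.mem_filter.mp hbX).2
      obtain ⟨O, hO, hOinv, h0, h1, h2', hOuniq⟩ := inv_five hg hg2 hp0 ha hb' hba hbga
      rw [Finset.card_eq_one]
      refine ⟨O, Finset.eq_singleton_iff_unique_mem.mpr ⟨?_, ?_⟩⟩
      · exact Finset.mem_filter.mpr ⟨Finset.mem_filter.mpr ⟨Finset.mem_filter.mpr
          ⟨Finset.mem_univ _, hO, hOinv, h0⟩, h1⟩, h2'⟩
      · intro O' hO'
        obtain ⟨hO'1, hbO'⟩ := Finset.mem_filter.mp hO'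
        obtain ⟨hO'2, ha0O'⟩ := Finset.mem_filter.mp hO'1
        obtain ⟨-, hO'oct, hO'inv, hp0O'⟩ := Finset.mem_filter.mp hO'2
        exact hOuniq O' hO'oct hO'inv hp0O' ha0O' hbO'
    · intro O hO
      obtain ⟨hO1, ha0O⟩ := Finset.mem_filter.mp hO
      have h6 := hsix O hO1
      obtain ⟨-, hOoct, hOinv, hp0O⟩ := Finset.mem_filter.mp hO1
      have e : ((Finset.univ.filter (fun a => g a ≠ a)).filter
          (fun b => b ≠ a0 ∧ b ≠ g a0)).filter (fun b => b ∈ O)
          = ((Finset.univ.filter (fun a => g a ≠ a)).filter (fun a => a ∈ O)) \ {a0, g a0} := by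
        ext b
        simp only [Finset.mem_filter, Finset.mem_univ, true_and, Finset.mem_sdiff,
          Finset.mem_insert, Finset.mem_singleton, not_or]
        tauto
      rw [e, Finset.card_sdiff_of_subset, h6, Finset.card_pair (Ne.symm ha)]
      intro x hx
      simp only [Finset.mem_insert, Finset.mem_singleton] at hx
      rcases hx with rfl | rfl
      · exact Finset.mem_filter.mpr ⟨ha0, ha0O⟩
      · exact Finset.mem_filter.mpr ⟨Finset.mem_filter.mpr ⟨Finset.mem_univ _, ha'⟩,
          (mem_iff_of_smul_eq hOinv _).mpr ha0O⟩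
  have key := double_count9 (Finset.univ.filter (fun a => g a ≠ a))
    ((Finset.univ : Finset (Finset GolayPt)).filter (fun O => O ∈ octads ∧ g • O = O ∧ p0 ∈ O))
    (fun a O => a ∈ O) 5 6 hfive hsix
  rw [hXcard] at key
  omega

/-- An involution of `M24` cannot have exactly four fixed points. -/
theorem no_four_fixed {g : Equiv.Perm GolayPt} (hg : g ∈ M24) (h2 : g ^ 2 = 1)
    (hf : (Finset.univ.filter (fun a => g a = a)).card = 4) : False := by
  classical
  have : Fact (Nat.Prime 2) := ⟨by norm_num⟩
  obtain ⟨p0, p1, p2, hp0m, hp1m, hp2m, h01, h02, h12⟩ :=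
    Finset.two_lt_card_iff.mp (by rw [hf]; norm_num : 2 < (Finset.univ.filter (fun a => g a = a)).card)
  have hp0 : g p0 = p0 := (Finset.mem_filter.mp hp0m).2
  have hp1 : g p1 = p1 := (Finset.mem_filter.mp hp1m).2
  have hp2 : g p2 = p2 := (Finset.mem_filter.mp hp2m).2
  have hXcard : (Finset.univ.filter (fun a => g a ≠ a)).card = 20 := by
    have h := Finset.card_filter_add_card_filter_not (s := (Finset.univ : Finset GolayPt))
      (fun a => g a = a)
    rw [hf, Finset.card_univ, card_golayPt] at h
    change 4 + (Finset.univ.filter (fun a => g a ≠ a)).card = 24 at h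
    omega
  have hg2 : ∀ a, g (g a) = a := by
    intro a
    have h := congrArg (fun f : Equiv.Perm GolayPt => f a) h2
    simpa [pow_succ] using h
  have hfixle : ∀ O : Finset GolayPt, (O.filter (fun a => g a = a)).card ≤ 4 := by
    intro O
    have hsub : O.filter (fun a => g a = a) ⊆ Finset.univ.filter (fun a => g a = a) :=
      Finset.filter_subset_filter _ (Finset.subset_univ _)
    have h := Finset.card_le_card hsub
    rwa [hf] at h
  -- an octad with four fixed points contains all fixed points
  have hfixall : ∀ O : Finset GolayPt, (O.filter (fun a => g a = a)).card = 4 →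
      ∀ x, g x = x → x ∈ O := by
    intro O hO x hx
    have hsub : O.filter (fun a => g a = a) ⊆ Finset.univ.filter (fun a => g a = a) :=
      Finset.filter_subset_filter _ (Finset.subset_univ _)
    have heq := Finset.eq_of_subset_of_card_le hsub (by rw [hf, hO])
    have hx' : x ∈ Finset.univ.filter (fun a => g a = a) :=
      Finset.mem_filter.mpr ⟨Finset.mem_univ _, hx⟩
    rw [← heq] at hx'
    exact (Finset.mem_filter.mp hx').1
  -- the octad through the fixed points and a 2-cycle
  have hO1 : ∀ a0, g a0 ≠ a0 → ∃ O ∈ octads, g • O = O ∧ a0 ∈ O ∧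
      (O.filter (fun a => g a = a)).card = 4 ∧ (O.filter (fun a => g a ≠ a)).card = 4 := by
    intro a0 ha
    have ha' : g (g a0) ≠ g a0 := fun h => ha (g.injective h)
    have n0 : ∀ p c, g p = p → g c ≠ c → p ≠ c := fun p c hp hc h => hc (by rw [← h]; exact hp)
    have hScard : ({p0, p1, p2, a0, g a0} : Finset GolayPt).card = 5 :=
      card_five9 h01 h02 (n0 p0 a0 hp0 ha) (n0 p0 (g a0) hp0 ha') h12 (n0 p1 a0 hp1 ha)
        (n0 p1 (g a0) hp1 ha') (n0 p2 a0 hp2 ha) (n0 p2 (g a0) hp2 ha') (Ne.symm ha)
    obtain ⟨O, ⟨hO, hSO⟩, -⟩ := octads_steiner.2 _ hScard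
    have hOinv : g • O = O := by
      apply inv_octad_of_five hg hO hSO (le_of_eq hScard.symm)
      intro x hx
      simp only [Finset.mem_insert, Finset.mem_singleton] at hx ⊢
      rcases hx with rfl | rfl | rfl | rfl | rfl
      · left; exact hp0
      · right; left; exact hp1
      · right; right; left; exact hp2
      · right; right; right; right; rfl
      · right; right; right; left; exact hg2 _
    have hdvd : 2 ∣ (O.filter (fun a => g a ≠ a)).card :=
      card_moved_dvd g O (mem_iff_of_smul_eq hOinv) 2 h2
    have hsum := octad_fix_add_moved g hO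
    have hge : 3 ≤ (O.filter (fun a => g a = a)).card := by
      have hsub : ({p0, p1, p2} : Finset GolayPt) ⊆ O.filter (fun a => g a = a) := by
        intro x hx
        simp only [Finset.mem_insert, Finset.mem_singleton] at hx
        rcases hx with rfl | rfl | rfl
        · exact Finset.mem_filter.mpr ⟨hSO (by simp), hp0⟩
        · exact Finset.mem_filter.mpr ⟨hSO (by simp), hp1⟩
        · exact Finset.mem_filter.mpr ⟨hSO (by simp), hp2⟩
      have h := Finset.card_le_card hsub
      rwa [Finset.card_insert_of_notMem (by simp [h01, h02]), Finset.card_pair h12] at h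
    have hle := hfixle O
    exact ⟨O, hO, hOinv, hSO (by simp), by omega, by omega⟩
  have hsix : ∀ O ∈ ((Finset.univ : Finset (Finset GolayPt)).filter
      (fun O => O ∈ octads ∧ g • O = O ∧ p0 ∈ O ∧ (O.filter (fun a => g a = a)).card = 2)),
      ((Finset.univ.filter (fun a => g a ≠ a)).filter (fun a => a ∈ O)).card = 6 := by
    intro O hO
    obtain ⟨-, hOoct, hOinv, hp0O, hO2⟩ := Finset.mem_filter.mp hO
    have e1 : (Finset.univ.filter (fun a => g a ≠ a)).filter (fun a => a ∈ O)
        = O.filter (fun a => g a ≠ a) := by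
      ext a
      simp only [Finset.mem_filter, Finset.mem_univ, true_and]
      tauto
    rw [e1]
    have hsum := octad_fix_add_moved g hOoct
    omega
  have hfour : ∀ a0 ∈ Finset.univ.filter (fun a => g a ≠ a),
      (((Finset.univ : Finset (Finset GolayPt)).filter
        (fun O => O ∈ octads ∧ g • O = O ∧ p0 ∈ O ∧ (O.filter (fun a => g a = a)).card = 2)).filter
          (fun O => a0 ∈ O)).card = 4 := by
    intro a0 ha0
    have ha : g a0 ≠ a0 := (Finset.mem_filter.mp ha0).2
    have ha' : g (g a0) ≠ g a0 := fun h => ha (g.injective h)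
    obtain ⟨O1, hO1oct, hO1inv, ha0O1, hO1fix, hO1mov⟩ := hO1 a0 ha
    have hga0O1 : g a0 ∈ O1 := (mem_iff_of_smul_eq hO1inv _).mpr ha0O1
    have key := double_count9
      ((Finset.univ.filter (fun a => g a ≠ a)).filter (fun b => b ∉ O1))
      (((Finset.univ : Finset (Finset GolayPt)).filter
        (fun O => O ∈ octads ∧ g • O = O ∧ p0 ∈ O ∧ (O.filter (fun a => g a = a)).card = 2)).filter
          (fun O => a0 ∈ O))
      (fun b O => b ∈ O) 1 4 ?_ ?_
    · have hs1 : ((Finset.univ.filter (fun a => g a ≠ a)).filter (fun b => b ∉ O1)).card = 16 := by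
        have h := Finset.card_filter_add_card_filter_not
          (s := Finset.univ.filter (fun a => g a ≠ a)) (fun b => b ∈ O1)
        have e1 : (Finset.univ.filter (fun a => g a ≠ a)).filter (fun a => a ∈ O1)
            = O1.filter (fun a => g a ≠ a) := by
          ext a
          simp only [Finset.mem_filter, Finset.mem_univ, true_and]
          tauto
        rw [e1, hO1mov, hXcard] at h
        omega
      rw [hs1] at key
      omega
    · intro b hb
      obtain ⟨hbX, hbO1⟩ := Finset.mem_filter.mp hb
      have hb' : g b ≠ b := (Finset.mem_filter.mp hbX).2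
      have hba : b ≠ a0 := fun h => hbO1 (by rw [h]; exact ha0O1)
      have hbga : b ≠ g a0 := fun h => hbO1 (by rw [h]; exact hga0O1)
      obtain ⟨O, hO, hOinv, h0, h1, h2', hOuniq⟩ := inv_five hg hg2 hp0 ha hb' hba hbga
      have hOfix : (O.filter (fun a => g a = a)).card = 2 := by
        have hdvd : 2 ∣ (O.filter (fun a => g a ≠ a)).card :=
          card_moved_dvd g O (mem_iff_of_smul_eq hOinv) 2 h2
        have hsum := octad_fix_add_moved g hO
        have hge : 1 ≤ (O.filter (fun a => g a = a)).card :=
          Finset.card_pos.mpr ⟨p0, Finset.mem_filter.mpr ⟨h0, hp0⟩⟩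
        have hle := hfixle O
        by_contra hne
        have h4 : (O.filter (fun a => g a = a)).card = 4 := by omega
        have hall := hfixall O h4
        have hall1 := hfixall O1 hO1fix
        have heq : O = O1 := by
          apply octads_unique hO hO1oct
          have hsub : ({p0, p1, p2, a0, g a0} : Finset GolayPt) ⊆ O ∩ O1 := by
            intro x hx
            simp only [Finset.mem_insert, Finset.mem_singleton] at hx
            rw [Finset.mem_inter]
            rcases hx with rfl | rfl | rfl | rfl | rfl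
            · exact ⟨hall _ hp0, hall1 _ hp0⟩
            · exact ⟨hall _ hp1, hall1 _ hp1⟩
            · exact ⟨hall _ hp2, hall1 _ hp2⟩
            · exact ⟨h1, ha0O1⟩
            · exact ⟨(mem_iff_of_smul_eq hOinv _).mpr h1, hga0O1⟩
          have n0 : ∀ p c, g p = p → g c ≠ c → p ≠ c :=
            fun p c hp hc h => hc (by rw [← h]; exact hp)
          have hScard : ({p0, p1, p2, a0, g a0} : Finset GolayPt).card = 5 :=
            card_five9 h01 h02 (n0 p0 a0 hp0 ha) (n0 p0 (g a0) hp0 ha') h12 (n0 p1 a0 hp1 ha)
              (n0 p1 (g a0) hp1 ha') (n0 p2 a0 hp2 ha) (n0 p2 (g a0) hp2 ha') (Ne.symm ha)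
          have h := Finset.card_le_card hsub
          rwa [hScard] at h
        rw [heq] at h2'
        exact hbO1 h2'
      rw [Finset.card_eq_one]
      refine ⟨O, Finset.eq_singleton_iff_unique_mem.mpr ⟨?_, ?_⟩⟩
      · exact Finset.mem_filter.mpr ⟨Finset.mem_filter.mpr ⟨Finset.mem_filter.mpr
          ⟨Finset.mem_univ _, hO, hOinv, h0, hOfix⟩, h1⟩, h2'⟩
      · intro O' hO'
        obtain ⟨hO'1, hbO'⟩ := Finset.mem_filter.mp hO'
        obtain ⟨hO'2, ha0O'⟩ := Finset.mem_filter.mp hO'1
        obtain ⟨-, hO'oct, hO'inv, hp0O', -⟩ := Finset.mem_filter.mp hO'2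
        exact hOuniq O' hO'oct hO'inv hp0O' ha0O' hbO'
    · intro O hO
      obtain ⟨hO1', ha0O⟩ := Finset.mem_filter.mp hO
      have h6 := hsix O hO1'
      obtain ⟨-, hOoct, hOinv, hp0O, hO2⟩ := Finset.mem_filter.mp hO1'
      have hall1 := hfixall O1 hO1fix
      -- the common moved points of O and O1 are a0 and g a0
      have hne : O ≠ O1 := by
        intro h
        rw [h, hO1fix] at hO2
        omega
      have hinter : (O ∩ O1).card ≤ 4 := by
        by_contra hlt
        exact hne (octads_unique hOoct hO1oct (by omega))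
      have hsplit := Finset.card_filter_add_card_filter_not (s := O ∩ O1) (fun a => g a = a)
      have efix : (O ∩ O1).filter (fun a => g a = a) = O.filter (fun a => g a = a) := by
        ext x
        simp only [Finset.mem_filter, Finset.mem_inter]
        constructor
        · rintro ⟨⟨hx1, -⟩, hx2⟩
          exact ⟨hx1, hx2⟩
        · rintro ⟨hx1, hx2⟩
          exact ⟨⟨hx1, hall1 x hx2⟩, hx2⟩
      rw [efix, hO2] at hsplit
      have hge2 : 2 ≤ ((O ∩ O1).filter (fun a => ¬ g a = a)).card := by
        have hsub : ({a0, g a0} : Finset GolayPt) ⊆ (O ∩ O1).filter (fun a => ¬ g a = a) := by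
          intro x hx
          simp only [Finset.mem_insert, Finset.mem_singleton] at hx
          rcases hx with rfl | rfl
          · exact Finset.mem_filter.mpr ⟨Finset.mem_inter.mpr ⟨ha0O, ha0O1⟩, ha⟩
          · exact Finset.mem_filter.mpr ⟨Finset.mem_inter.mpr
              ⟨(mem_iff_of_smul_eq hOinv _).mpr ha0O, hga0O1⟩, ha'⟩
        have h := Finset.card_le_card hsub
        rwa [Finset.card_pair (Ne.symm ha)] at h
      have hsplit2 := Finset.card_filter_add_card_filter_not
        (s := (Finset.univ.filter (fun a => g a ≠ a)).filter (fun a => a ∈ O)) (fun b => b ∈ O1)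
      have e2 : ((Finset.univ.filter (fun a => g a ≠ a)).filter (fun a => a ∈ O)).filter
          (fun b => b ∈ O1) = (O ∩ O1).filter (fun a => ¬ g a = a) := by
        ext x
        simp only [Finset.mem_filter, Finset.mem_univ, true_and, Finset.mem_inter]
        tauto
      have e3 : ((Finset.univ.filter (fun a => g a ≠ a)).filter (fun a => a ∈ O)).filter
          (fun b => ¬ b ∈ O1)
          = ((Finset.univ.filter (fun a => g a ≠ a)).filter (fun b => b ∉ O1)).filter
            (fun b => b ∈ O) := by
        ext x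
        simp only [Finset.mem_filter, Finset.mem_univ, true_and]
        tauto
      rw [e2, e3, h6] at hsplit2
      omega
  have key := double_count9 (Finset.univ.filter (fun a => g a ≠ a))
    ((Finset.univ : Finset (Finset GolayPt)).filter
      (fun O => O ∈ octads ∧ g • O = O ∧ p0 ∈ O ∧ (O.filter (fun a => g a = a)).card = 2))
    (fun a O => a ∈ O) 4 6 hfour hsix
  rw [hXcard] at key
  omega

end Cfsg.Agent.Helper9
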