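import Mathlib
import Cfsg.Agent.Helper1.Golay12
import Cfsg.Prelude.Def_SporadicCombinatorics

set_option autoImplicit false

namespace Cfsg.Agent.Helper9

open Cfsg Cfsg.Agent.Helper1.Golay
open scoped Pointwise

/-- Restriction of a subgroup stabilizing a finite set to the permutation group of that set. -/
def restrictHom9 {G α : Type*} [Group G] [MulAction G α] [DecidableEq α] (K : Subgroup G)
    (C : Finset α) (hK : ∀ g ∈ K, g • C = C) : K →* Equiv.Perm ↥C where
  toFun g :=
    { toFun := fun p => ⟨g.1 • p.1, by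
        have h := Finset.smul_mem_smul_finset (a := g.1) p.2
        rwa [hK g.1 g.2] at h⟩
      invFun := fun p => ⟨g.1⁻¹ • p.1, by
        have h' : g.1⁻¹ • C = C := by rw [inv_smul_eq_iff, hK g.1 g.2]
        have h := Finset.smul_mem_smul_finset (a := g.1⁻¹) p.2
        rwa [h'] at h⟩
      left_inv := fun p => Subtype.ext (inv_smul_smul _ _)
      right_inv := fun p => Subtype.ext (smul_inv_smul _ _) }
  map_one' := by
    ext p
    simp
  map_mul' := fun a b => by
    ext p
    simp [mul_smul]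

theorem restrictHom9_apply {G α : Type*} [Group G] [MulAction G α] [DecidableEq α]
    (K : Subgroup G) (C : Finset α) (hK : ∀ g ∈ K, g • C = C) (g : K) (p : ↥C) :
    ((restrictHom9 K C hK g) p : α) = g.1 • p.1 := rfl

/-- Sharpness of the action of a dodecad stabilizer: an element fixing five points of the
dodecad is trivial. -/
theorem m12_trivial_of_fix {d : Finset GolayPt} (hd : d ∈ dodecads) {g : ↥M24}
    (hg : g ∈ MulAction.stabilizer M24 d) (S : Finset GolayPt) (hS : S ⊆ d) (h5 : 5 ≤ S.card)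
    (hfix : ∀ p ∈ S, (g : Equiv.Perm GolayPt) p = p) : g = 1 := by
  classical
  obtain ⟨S', hS'S, hS'⟩ := Finset.exists_subset_card_eq h5
  let e : Fin 5 ≃ S' := (Finset.equivFinOfCardEq hS').symm
  let x : Fin 5 ↪ GolayPt := e.toEmbedding.trans (Function.Embedding.subtype _)
  have hx : ∀ i, x i ∈ d := fun i => hS (hS'S (e i).2)
  have h := m12_stab_trivial d hd x hx
  have hmem : g ∈ MulAction.stabilizer M24 d ⊓ MulAction.stabilizer M24 x := by
    refine Subgroup.mem_inf.mpr ⟨hg, MulAction.mem_stabilizer_iff.mpr ?_⟩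
    exact Function.Embedding.ext fun i => hfix _ (hS'S (e i).2)
  rw [h] at hmem
  exact Subgroup.mem_bot.mp hmem

/-- The stabilizer of a dodecad and a hexad on it is the symmetric group of degree 6. -/
theorem hexad_stab (d : Finset GolayPt) (hd : d ∈ dodecads) (C : Finset GolayPt)
    (hC : C ∈ hexadsOn d) :
    Nonempty (↥(MulAction.stabilizer M24 d ⊓ MulAction.stabilizer M24 C) ≃* Equiv.Perm (Fin 6)) ∧
    (∀ g ∈ MulAction.stabilizer M24 d ⊓ MulAction.stabilizer M24 C,
      (∀ p ∈ C, ((g : ↥M24) : Equiv.Perm GolayPt) p = p) → g = 1) ∧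
    ∀ g ∈ MulAction.stabilizer M24 d ⊓ MulAction.stabilizer M24 C,
      (∀ p ∈ d \ C, ((g : ↥M24) : Equiv.Perm GolayPt) p = p) → g = 1 := by
  classical
  obtain ⟨hC6, o, ho, hoC⟩ := hC
  have hCd : C ⊆ d := by
    rw [← hoC]
    exact Finset.inter_subset_right
  have hCo : C ⊆ o := by
    rw [← hoC]
    exact Finset.inter_subset_left
  have hd12 : d.card = 12 := hd.2
  have h2 : ∀ g ∈ MulAction.stabilizer M24 d ⊓ MulAction.stabilizer M24 C,
      (∀ p ∈ C, ((g : ↥M24) : Equiv.Perm GolayPt) p = p) → g = 1 := by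
    intro g hg hfix
    exact m12_trivial_of_fix hd (Subgroup.mem_inf.mp hg).1 C hCd (by omega) hfix
  have h3 : ∀ g ∈ MulAction.stabilizer M24 d ⊓ MulAction.stabilizer M24 C,
      (∀ p ∈ d \ C, ((g : ↥M24) : Equiv.Perm GolayPt) p = p) → g = 1 := by
    intro g hg hfix
    refine m12_trivial_of_fix hd (Subgroup.mem_inf.mp hg).1 (d \ C) Finset.sdiff_subset ?_ hfix
    rw [Finset.card_sdiff_of_subset hCd]
    omega
  refine ⟨?_, h2, h3⟩
  have hK : ∀ g ∈ MulAction.stabilizer M24 d ⊓ MulAction.stabilizer M24 C, g • C = C :=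
    fun g hg => MulAction.mem_stabilizer_iff.mp (Subgroup.mem_inf.mp hg).2
  have hinj : Function.Injective
      (restrictHom9 (MulAction.stabilizer M24 d ⊓ MulAction.stabilizer M24 C) C hK) := by
    rw [injective_iff_map_eq_one]
    intro g hg1
    have h4 := h2 g.1 g.2 (fun p hp => by
      have h5 := restrictHom9_apply _ C hK g ⟨p, hp⟩
      rw [hg1] at h5
      exact h5.symm)
    exact Subtype.ext h4
  have hsurj : Function.Surjective
      (restrictHom9 (MulAction.stabilizer M24 d ⊓ MulAction.stabilizer M24 C) C hK) := by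
    intro σ
    obtain ⟨c5, hc5⟩ : C.Nonempty := Finset.card_pos.mp (by omega)
    have hS' : (C.erase c5).card = 5 := by rw [Finset.card_erase_of_mem hc5, hC6]
    have hS'C : C.erase c5 ⊆ C := Finset.erase_subset _ _
    let e : Fin 5 ≃ ↥(C.erase c5) := (Finset.equivFinOfCardEq hS').symm
    let x : Fin 5 ↪ GolayPt := e.toEmbedding.trans (Function.Embedding.subtype _)
    have hxS : ∀ i, x i ∈ C.erase c5 := fun i => (e i).2
    have hxC : ∀ i, x i ∈ C := fun i => hS'C (hxS i)
    let y : Fin 5 ↪ GolayPt := ⟨fun i => (σ ⟨x i, hxC i⟩ : GolayPt), fun i j hij => by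
      have h4 := σ.injective (Subtype.ext hij)
      have h5 : x i = x j := Subtype.mk.inj h4
      exact x.injective h5⟩
    have hyC : ∀ i, y i ∈ C := fun i => (σ ⟨x i, hxC i⟩).2
    obtain ⟨g, hg, hgd, hgxy⟩ := m12_exists d hd x y (fun i => hCd (hxC i)) (fun i => hCd (hyC i))
    have hgo : g • o = o := by
      apply octads_unique (smul_octad_mem hg ho) ho
      have h4 : (Finset.univ.map y).card = 5 := by
        rw [Finset.card_map, Finset.card_univ, Fintype.card_fin]
      rw [← h4]
      apply Finset.card_le_card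
      intro p hp
      obtain ⟨i, -, rfl⟩ := Finset.mem_map.mp hp
      rw [Finset.mem_inter]
      refine ⟨?_, hCo (hyC i)⟩
      rw [← hgxy i]
      exact Finset.smul_mem_smul_finset (hCo (hxC i))
    have hgC : g • C = C := by
      rw [← hoC, Finset.smul_finset_inter, hgo, hgd]
    have hmem : (⟨g, hg⟩ : ↥M24) ∈ MulAction.stabilizer M24 d ⊓ MulAction.stabilizer M24 C :=
      Subgroup.mem_inf.mpr ⟨MulAction.mem_stabilizer_iff.mpr hgd,
        MulAction.mem_stabilizer_iff.mpr hgC⟩
    refine ⟨⟨⟨g, hg⟩, hmem⟩, ?_⟩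
    have hagree : ∀ p : ↥C, p.1 ≠ c5 →
        restrictHom9 (MulAction.stabilizer M24 d ⊓ MulAction.stabilizer M24 C) C hK
          ⟨⟨g, hg⟩, hmem⟩ p = σ p := by
      intro p hp
      apply Subtype.ext
      rw [restrictHom9_apply]
      have hpS : p.1 ∈ C.erase c5 := Finset.mem_erase.mpr ⟨hp, p.2⟩
      have hxi : x (e.symm ⟨p.1, hpS⟩) = p.1 := by simp [x]
      have h4 := hgxy (e.symm ⟨p.1, hpS⟩)
      have h5 : y (e.symm ⟨p.1, hpS⟩) = (σ ⟨x (e.symm ⟨p.1, hpS⟩), hxC _⟩ : GolayPt) := rfl
      rw [h5] at h4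
      have h6 : (⟨x (e.symm ⟨p.1, hpS⟩), hxC _⟩ : ↥C) = p := Subtype.ext hxi
      rw [h6, hxi] at h4
      exact h4
    apply Equiv.ext
    intro p
    by_cases hp : p.1 = c5
    · by_contra hne
      set φg := restrictHom9 (MulAction.stabilizer M24 d ⊓ MulAction.stabilizer M24 C) C hK
        ⟨⟨g, hg⟩, hmem⟩ with hφg
      have hq : (σ.symm (φg p)).1 ≠ c5 := by
        intro hq
        apply hne
        have h4 : σ.symm (φg p) = p := Subtype.ext (hq.trans hp.symm)
        rw [Equiv.symm_apply_eq] at h4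
        exact h4
      have h4 := hagree (σ.symm (φg p)) hq
      rw [Equiv.apply_symm_apply] at h4
      have h5 := φg.injective h4
      rw [h5] at hq
      exact hq hp
    · exact hagree p hp
  exact ⟨(MulEquiv.ofBijective _ ⟨hinj, hsurj⟩).trans
    (Equiv.permCongrHom (Finset.equivFinOfCardEq hC6))⟩

end Cfsg.Agent.Helper9

namespace Cfsg.Agent.Helper9

open Cfsg Cfsg.Agent.Helper1.Golay
open scoped Pointwise

/-- Two octads meeting in two points: their symmetric difference is a dodecad, the difference is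
a hexad on it, and the joint stabilizers agree. -/
theorem octad_pair_two (o o' : Finset GolayPt) (ho : o ∈ octads) (ho' : o' ∈ octads)
    (h₂ : (o ∩ o').card = 2) :
    symmDiff o o' ∈ dodecads ∧ (o \ o') ∈ hexadsOn (symmDiff o o') ∧
    MulAction.stabilizer M24 o ⊓ MulAction.stabilizer M24 o'
      = MulAction.stabilizer M24 (symmDiff o o') ⊓ MulAction.stabilizer M24 (o \ o') := by
  classical
  have hc1 : (o \ o').card = 6 := by
    have h := Finset.card_sdiff_add_card_inter o o'
    rw [ho.2, h₂] at h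
    omega
  have hc2 : (o' \ o).card = 6 := by
    have h := Finset.card_sdiff_add_card_inter o' o
    rw [ho'.2, Finset.inter_comm, h₂] at h
    omega
  have hd : symmDiff o o' ∈ dodecads := by
    obtain ⟨⟨v, hv, hvo⟩, -⟩ := ho
    obtain ⟨⟨w, hw, hwo⟩, -⟩ := ho'
    refine ⟨⟨v + w, Submodule.add_mem _ hv hw, ?_⟩, ?_⟩
    · rw [support₂_add, hvo, hwo]
    · have h1 : symmDiff o o' = (o \ o') ∪ (o' \ o) := rfl
      rw [h1, Finset.card_union_of_disjoint disjoint_sdiff_sdiff, hc1, hc2]
  have hinter : o ∩ symmDiff o o' = o \ o' := by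
    ext p
    simp only [Finset.mem_inter, Finset.mem_symmDiff, Finset.mem_sdiff]
    tauto
  refine ⟨hd, ⟨hc1, o, ho, hinter⟩, ?_⟩
  ext g
  rw [Subgroup.mem_inf, Subgroup.mem_inf, MulAction.mem_stabilizer_iff,
    MulAction.mem_stabilizer_iff, MulAction.mem_stabilizer_iff, MulAction.mem_stabilizer_iff]
  constructor
  · rintro ⟨h1, h2⟩
    exact ⟨by rw [Finset.smul_finset_symmDiff, h1, h2], by rw [Finset.smul_finset_sdiff, h1, h2]⟩
  · rintro ⟨h1, h2⟩
    have hgo : g • o = o := by
      have hgo' : (g : Equiv.Perm GolayPt) • o ∈ octads := smul_octad_mem g.2 ho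
      apply octads_unique hgo' ho
      have h3 : o \ o' ⊆ (g : Equiv.Perm GolayPt) • o ∩ o := by
        intro p hp
        rw [Finset.mem_inter]
        refine ⟨?_, (Finset.mem_sdiff.mp hp).1⟩
        have h4 : p ∈ g • (o \ o') := by rw [h2]; exact hp
        exact Finset.smul_finset_subset_smul_finset Finset.sdiff_subset h4
      have h5 := Finset.card_le_card h3
      omega
    refine ⟨hgo, ?_⟩
    have h3 : o' = symmDiff o (symmDiff o o') := (symmDiff_symmDiff_cancel_left o o').symm
    rw [h3, Finset.smul_finset_symmDiff, hgo, h1]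

end Cfsg.Agent.Helper9
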