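import Mathlib

set_option autoImplicit false

namespace Cfsg.Agent.Helper9

open MulAction

theorem sylow_orbit_dvd {G Ω : Type*} [Group G] [Finite G] [MulAction G Ω] [IsPretransitive G Ω]
    (p : ℕ) [Fact p.Prime] (P : Sylow p G) (ω : Ω) (k : ℕ) (hk : p ^ k ∣ Nat.card Ω) :
    p ^ k ∣ (orbit (P : Subgroup G) ω).ncard := by
  have hstab : stabilizer (P : Subgroup G) ω = (stabilizer G ω).subgroupOf (P : Subgroup G) := by
    ext g
    simp [mem_stabilizer_iff, Subgroup.mem_subgroupOf, Subgroup.smul_def]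
  rw [← index_stabilizer, hstab]
  change p ^ k ∣ (stabilizer G ω).relIndex (P : Subgroup G)
  have h1 : ((stabilizer G ω) ⊓ P).relIndex P * (P : Subgroup G).index = ((stabilizer G ω) ⊓ P).index :=
    Subgroup.relIndex_mul_index inf_le_right
  have h2 : ((stabilizer G ω) ⊓ P).relIndex (stabilizer G ω) * (stabilizer G ω).index
      = ((stabilizer G ω) ⊓ P).index := Subgroup.relIndex_mul_index inf_le_left
  rw [Subgroup.inf_relIndex_right] at h1
  have h3 : p ^ k ∣ (stabilizer G ω).relIndex P * (P : Subgroup G).index := by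
    rw [h1, ← h2, index_stabilizer_of_transitive]
    exact Dvd.dvd.mul_left hk _
  have hcop : Nat.Coprime (p ^ k) (P : Subgroup G).index :=
    Nat.Coprime.pow_left k ((Nat.Prime.coprime_iff_not_dvd Fact.out).mpr P.not_dvd_index)
  exact hcop.dvd_of_dvd_mul_right h3

theorem exists_fpf_of_prime_pow {G Ω : Type*} [Group G] [Finite G] [MulAction G Ω] [FaithfulSMul G Ω]
    [Finite Ω] [IsPretransitive G Ω] (p k : ℕ) [Fact p.Prime] (hk : 1 ≤ k) (hΩ : Nat.card Ω = p ^ k) :
    ∃ g : G, orderOf g = p ∧ ∀ ω : Ω, g • ω ≠ ω := by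
  have hp : p.Prime := Fact.out
  obtain ⟨P⟩ : Nonempty (Sylow p G) := inferInstance
  have htrans : ∀ ω : Ω, orbit (P : Subgroup G) ω = Set.univ := by
    intro ω
    have h := sylow_orbit_dvd p P ω k (by rw [hΩ])
    have hpos : 0 < (orbit (P : Subgroup G) ω).ncard :=
      (Set.ncard_pos (Set.toFinite _)).mpr ⟨ω, mem_orbit_self ω⟩
    have hle : (orbit (P : Subgroup G) ω).ncard ≤ Nat.card Ω := by
      rw [← Set.ncard_univ]
      exact Set.ncard_le_ncard (Set.subset_univ _) (Set.toFinite _)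
    have heq : (orbit (P : Subgroup G) ω).ncard = (Set.univ : Set Ω).ncard := by
      rw [Set.ncard_univ]
      exact le_antisymm hle (hΩ ▸ Nat.le_of_dvd hpos h)
    exact Set.eq_of_subset_of_ncard_le (Set.subset_univ _) heq.ge (Set.toFinite _)
  have hΩne : Nonempty Ω := by
    have : 0 < Nat.card Ω := by rw [hΩ]; exact pow_pos hp.pos k
    exact (Nat.card_pos_iff.mp this).1
  obtain ⟨ω₀⟩ := hΩne
  have hPnt : Nontrivial (P : Subgroup G) := by
    by_contra hnt
    rw [not_nontrivial_iff_subsingleton] at hnt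
    have hs : orbit (P : Subgroup G) ω₀ = {ω₀} := by
      ext x
      constructor
      · rintro ⟨g, rfl⟩
        rw [Subsingleton.elim g 1]
        simp
      · rintro rfl
        exact mem_orbit_self _
    rw [htrans ω₀] at hs
    have h1 : Nat.card Ω = 1 := by rw [← Set.ncard_univ, hs, Set.ncard_singleton]
    rw [hΩ] at h1
    exact absurd h1 (Nat.one_lt_pow (by omega) hp.one_lt).ne'
  have hPp : IsPGroup p (P : Subgroup G) := P.isPGroup'
  have hZnt := hPp.center_nontrivial
  have hZp : IsPGroup p (Subgroup.center (P : Subgroup G)) := hPp.to_subgroup _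
  have hdvd : p ∣ Nat.card (Subgroup.center (P : Subgroup G)) := by
    rcases hZp.card_eq_or_dvd with h | h
    · have := Finite.one_lt_card_iff_nontrivial.mpr hZnt
      omega
    · exact h
  obtain ⟨z, hz⟩ := exists_prime_orderOf_dvd_card' p hdvd
  have hzo : orderOf ((z : (P : Subgroup G)) : G) = p := by
    rw [Subgroup.orderOf_coe, Subgroup.orderOf_coe, hz]
  refine ⟨((z : (P : Subgroup G)) : G), hzo, ?_⟩
  intro ω hfix
  have hall : ∀ ω' : Ω, ((z : (P : Subgroup G)) : G) • ω' = ω' := by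
    intro ω'
    have hmem : ω' ∈ orbit (P : Subgroup G) ω := by rw [htrans ω]; trivial
    obtain ⟨h, rfl⟩ := hmem
    have hcomm : (z : (P : Subgroup G)) * h = h * z := (Subgroup.mem_center_iff.mp z.2 h).symm
    have e1 : ((z : (P : Subgroup G)) : G) • h • ω = ((z : (P : Subgroup G)) * h) • ω := by
      rw [mul_smul]; rfl
    have e2 : (h * (z : (P : Subgroup G))) • ω = h • (((z : (P : Subgroup G)) : G) • ω) := by
      rw [mul_smul]; rfl
    rw [e1, hcomm, e2, hfix]
  have h1 : ((z : (P : Subgroup G)) : G) = 1 :=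
    FaithfulSMul.eq_of_smul_eq_smul (α := Ω) (fun a => by rw [hall a, one_smul])
  rw [h1, orderOf_one] at hzo
  exact hp.one_lt.ne hzo

theorem exists_fpf_of_mul_prime {G Ω : Type*} [Group G] [Finite G] [MulAction G Ω] [FaithfulSMul G Ω]
    [Finite Ω] [IsPretransitive G Ω] (p m : ℕ) [Fact p.Prime] (hm : 1 ≤ m) (hmp : m < p)
    (hΩ : Nat.card Ω = m * p) :
    ∃ g : G, orderOf g = p ∧ ∀ ω : Ω, g • ω ≠ ω := by
  classical
  have hp : p.Prime := Fact.out
  have hΩne : Nonempty Ω := by
    have : 0 < Nat.card Ω := by rw [hΩ]; exact Nat.mul_pos (by omega) hp.pos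
    exact (Nat.card_pos_iff.mp this).1
  obtain ⟨ω₀⟩ := hΩne
  obtain ⟨P⟩ : Nonempty (Sylow p G) := inferInstance
  obtain ⟨a, ha⟩ : ∃ a, Nat.card (P : Subgroup G) = p ^ a := ⟨_, P.card_eq_multiplicity⟩
  have horb : ∀ ω : Ω, (orbit (P : Subgroup G) ω).ncard = p := by
    intro ω
    have h1 := sylow_orbit_dvd p P ω 1 (by rw [hΩ, pow_one]; exact dvd_mul_left p m)
    rw [pow_one] at h1
    have h2 : (orbit (P : Subgroup G) ω).ncard ∣ p ^ a := by
      rw [← index_stabilizer, ← ha]
      exact Subgroup.index_dvd_card _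
    obtain ⟨i, hi, hi'⟩ := (Nat.dvd_prime_pow hp).mp h2
    have hle : (orbit (P : Subgroup G) ω).ncard ≤ m * p := by
      rw [← hΩ, ← Set.ncard_univ]
      exact Set.ncard_le_ncard (Set.subset_univ _) (Set.toFinite _)
    rw [hi'] at h1 hle ⊢
    have hi1 : i ≠ 0 := by
      rintro rfl
      rw [pow_zero] at h1
      exact hp.one_lt.ne' (Nat.dvd_one.mp h1)
    have hi2 : i < 2 := by
      by_contra hcon
      have h3 : p ^ 2 ≤ p ^ i := Nat.pow_le_pow_right hp.pos (by omega)
      nlinarith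
    have : i = 1 := by omega
    rw [this, pow_one]
  have hidx : ∀ ω : Ω, (stabilizer (P : Subgroup G) ω).index = p := fun ω => by
    rw [index_stabilizer, horb]
  have ha0 : a ≠ 0 := by
    rintro rfl
    have := Subgroup.index_dvd_card (stabilizer (P : Subgroup G) ω₀)
    rw [hidx, ha, pow_zero] at this
    exact hp.one_lt.ne' (Nat.dvd_one.mp this)
  have hnormal : ∀ ω : Ω, (stabilizer (P : Subgroup G) ω).Normal := by
    intro ω
    apply Subgroup.normal_of_index_eq_minFac_card
    rw [hidx, ha, hp.pow_minFac ha0]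
  have hfixorb : ∀ (g : (P : Subgroup G)) (ω : Ω), g • ω = ω →
      ∀ h : (P : Subgroup G), g • (h • ω) = h • ω := by
    intro g ω hg h
    have hmem : g ∈ stabilizer (P : Subgroup G) ω := hg
    have h2 : (h⁻¹ * g * h⁻¹⁻¹) • ω = ω := (hnormal ω).conj_mem g hmem h⁻¹
    rw [inv_inv, mul_smul, mul_smul] at h2
    exact inv_smul_eq_iff.mp h2
  have hex : ∃ g : (P : Subgroup G), ∀ ω : Ω, g • ω ≠ ω := by
    by_contra hcon
    push Not at hcon
    have : Fintype (P : Subgroup G) := Fintype.ofFinite _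
    have : Fintype Ω := Fintype.ofFinite _
    have hA : ∀ g : (P : Subgroup G), p ≤ (Finset.univ.filter (fun ω : Ω => g • ω = ω)).card := by
      intro g
      obtain ⟨ω, hω⟩ := hcon g
      have hsub : (orbit (P : Subgroup G) ω).toFinset ⊆ Finset.univ.filter (fun ω : Ω => g • ω = ω) := by
        intro x hx
        simp only [Set.mem_toFinset] at hx
        obtain ⟨h, rfl⟩ := hx
        simp only [Finset.mem_filter, Finset.mem_univ, true_and]
        exact hfixorb g ω hω h
      calc p = (orbit (P : Subgroup G) ω).ncard := (horb ω).symm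
        _ = (orbit (P : Subgroup G) ω).toFinset.card := Set.ncard_eq_toFinset_card' _
        _ ≤ _ := Finset.card_le_card hsub
    have hB : ∀ ω : Ω, (Finset.univ.filter (fun g : (P : Subgroup G) => g • ω = ω)).card * p = p ^ a := by
      intro ω
      have h1 : (Finset.univ.filter (fun g : (P : Subgroup G) => g • ω = ω)).card
          = Nat.card (stabilizer (P : Subgroup G) ω) := by
        rw [Nat.card_eq_fintype_card, Fintype.card_subtype]
        rfl
      have h2 := Subgroup.card_mul_index (stabilizer (P : Subgroup G) ω)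
      rw [hidx ω, ha] at h2
      rw [h1]
      exact h2
    have hsum : ∑ g : (P : Subgroup G), (Finset.univ.filter (fun ω : Ω => g • ω = ω)).card
        = ∑ ω : Ω, (Finset.univ.filter (fun g : (P : Subgroup G) => g • ω = ω)).card := by
      simp_rw [Finset.card_filter]
      exact Finset.sum_comm
    have h1 : Fintype.card (P : Subgroup G) * p
        ≤ ∑ g : (P : Subgroup G), (Finset.univ.filter (fun ω : Ω => g • ω = ω)).card := by
      calc Fintype.card (P : Subgroup G) * p = ∑ g : (P : Subgroup G), p := by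
            simp [Finset.sum_const, Finset.card_univ]
        _ ≤ _ := Finset.sum_le_sum (fun g _ => hA g)
    have h2 : (∑ ω : Ω, (Finset.univ.filter (fun g : (P : Subgroup G) => g • ω = ω)).card) * p
        = Fintype.card Ω * p ^ a := by
      rw [Finset.sum_mul, Finset.sum_congr rfl (fun ω _ => hB ω)]
      simp [Finset.sum_const, Finset.card_univ]
    have hP : Fintype.card (P : Subgroup G) = p ^ a := by rw [← Nat.card_eq_fintype_card, ha]
    have hΩ' : Fintype.card Ω = m * p := by rw [← Nat.card_eq_fintype_card, hΩ]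
    rw [hsum] at h1
    have h3 := Nat.mul_le_mul_right p h1
    rw [h2, hP, hΩ'] at h3
    have hpa : 0 < p ^ a := pow_pos hp.pos a
    have h4 : p ^ a * p * p ≤ p ^ a * p * m := by nlinarith
    have h5 := Nat.le_of_mul_le_mul_left h4 (Nat.mul_pos hpa hp.pos)
    omega
  obtain ⟨g, hg⟩ := hex
  refine ⟨(g : G), ?_, fun ω => hg ω⟩
  have hgp : (g : G) ^ p = 1 := by
    apply FaithfulSMul.eq_of_smul_eq_smul (α := Ω)
    intro ω
    rw [one_smul]
    have := hnormal ω
    have h1 := (stabilizer (P : Subgroup G) ω).pow_index_mem g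
    rw [hidx] at h1
    exact h1
  have hg1 : (g : G) ≠ 1 := by
    intro h
    apply hg ω₀
    show (g : G) • ω₀ = ω₀
    rw [h, one_smul]
  exact orderOf_eq_prime hgp hg1

theorem exists_smul_eq_of_unique_fixed {C Ω : Type*} [Group C] [MulAction C Ω] [Finite Ω] (Φ : Set Ω)
    (h : ∀ φ ∈ Φ, ∃ w : C, w * w = 1 ∧ ∀ ψ : Ω, w • ψ = ψ ↔ ψ = φ) :
    ∀ φ ∈ Φ, ∀ ψ ∈ Φ, ∃ c : C, c • φ = ψ := by
  intro φ hφ ψ hψ
  by_contra hcon
  have hψO : ψ ∉ MulAction.orbit C φ := fun ⟨c, hc⟩ => hcon ⟨c, hc⟩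
  obtain ⟨w₀, hw₀, hfix₀⟩ := h φ hφ
  obtain ⟨w₁, hw₁, hfix₁⟩ := h ψ hψ
  have hp : ∀ w : C, w * w = 1 → IsPGroup 2 (Subgroup.zpowers w) := by
    intro w hw
    rintro ⟨g, hg⟩
    refine ⟨1, ?_⟩
    obtain ⟨i, rfl⟩ := Subgroup.mem_zpowers_iff.mp hg
    apply Subtype.ext
    show (w ^ i) ^ 2 ^ 1 = 1
    rw [pow_one, ← zpow_natCast, ← zpow_mul, mul_comm, zpow_mul, zpow_natCast, pow_two, hw, one_zpow]
  have hfin : Fact (Nat.Prime 2) := ⟨Nat.prime_two⟩
  have h0 := (hp w₀ hw₀).card_modEq_card_fixedPoints (MulAction.orbit C φ)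
  have h1 := (hp w₁ hw₁).card_modEq_card_fixedPoints (MulAction.orbit C φ)
  have hc0 : Nat.card (MulAction.fixedPoints (Subgroup.zpowers w₀) (MulAction.orbit C φ)) = 1 := by
    rw [Nat.card_eq_one_iff_unique]
    refine ⟨⟨?_⟩, ⟨⟨⟨φ, MulAction.mem_orbit_self φ⟩, ?_⟩⟩⟩
    · rintro ⟨⟨a, ha⟩, hfa⟩ ⟨⟨b, hb⟩, hfb⟩
      have ha' : w₀ • a = a := congrArg Subtype.val (hfa ⟨w₀, Subgroup.mem_zpowers w₀⟩)
      have hb' : w₀ • b = b := congrArg Subtype.val (hfb ⟨w₀, Subgroup.mem_zpowers w₀⟩)
      rw [hfix₀] at ha' hb'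
      subst ha' hb'
      rfl
    · rintro ⟨g, hg⟩
      apply Subtype.ext
      have hle : Subgroup.zpowers w₀ ≤ MulAction.stabilizer C φ := by
        rw [Subgroup.zpowers_le]
        exact (hfix₀ φ).mpr rfl
      exact hle hg
  have hc1 : Nat.card (MulAction.fixedPoints (Subgroup.zpowers w₁) (MulAction.orbit C φ)) = 0 := by
    rw [Nat.card_eq_zero]
    left
    constructor
    rintro ⟨⟨a, ha⟩, hfa⟩
    have ha' : w₁ • a = a := congrArg Subtype.val (hfa ⟨w₁, Subgroup.mem_zpowers w₁⟩)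
    rw [hfix₁] at ha'
    subst ha'
    exact hψO ha
  rw [hc0] at h0
  rw [hc1] at h1
  have h2 := h0.symm.trans h1
  exact absurd h2 (by decide)

end Cfsg.Agent.Helper9
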