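import Mathlib

/-!
# Second maximal subgroups below a maximal subgroup of "giant-only" odd index

Helper lemmas for S5885.
-/

namespace Cfsg.Agent.Helper9

open scoped Pointwise

/-- Introduction rule for `IsCoatom (H.subgroupOf K)`. -/
theorem coatom_subgroupOf_of9 {G : Type*} [Group G] {H K : Subgroup G} (hHK : H ≤ K) (hne : H ≠ K)
    (h : ∀ L : Subgroup G, H ≤ L → L ≤ K → L ≠ H → L = K) : IsCoatom (H.subgroupOf K) := by
  constructor
  · intro htop
    rw [Subgroup.subgroupOf_eq_top] at htop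
    exact hne (le_antisymm hHK htop)
  · intro X hX
    have h1 : H ≤ X.map K.subtype := by
      intro x hx
      have hx' : (⟨x, hHK hx⟩ : K) ∈ H.subgroupOf K := by
        rw [Subgroup.mem_subgroupOf]; exact hx
      exact ⟨⟨x, hHK hx⟩, hX.le hx', rfl⟩
    have h2 : X.map K.subtype ≤ K := by
      rintro _ ⟨y, _, rfl⟩
      exact y.2
    have h3 : X.map K.subtype ≠ H := by
      intro heq
      apply hX.ne
      ext y
      rw [Subgroup.mem_subgroupOf, ← heq]
      constructor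
      · rintro ⟨z, hz, hzy⟩
        have hzy' : z = y := Subtype.ext hzy
        rw [← hzy']; exact hz
      · intro hy
        exact ⟨y, hy, rfl⟩
    have h4 := h _ h1 h2 h3
    rw [eq_top_iff]
    intro y _
    have hy : (y : G) ∈ X.map K.subtype := by rw [h4]; exact y.2
    obtain ⟨z, hz, hzy⟩ := hy
    have hzy' : z = y := Subtype.ext hzy
    rw [← hzy']; exact hz

/-- Elimination rule for `IsCoatom (H.subgroupOf M)`. -/
theorem coatom_subgroupOf_elim9 {G : Type*} [Group G] {H M : Subgroup G}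
    (hmax : IsCoatom (H.subgroupOf M)) {S : Subgroup G} (hHS : H ≤ S) (hSM : S ≤ M)
    (hne : ¬ S ≤ H) : S = M := by
  have h1 : H.subgroupOf M < S.subgroupOf M := by
    refine lt_of_le_of_ne ?_ ?_
    · intro x hx
      rw [Subgroup.mem_subgroupOf] at hx ⊢
      exact hHS hx
    · intro heq
      apply hne
      intro s hs
      have hs' : (⟨s, hSM hs⟩ : M) ∈ S.subgroupOf M := by
        rw [Subgroup.mem_subgroupOf]; exact hs
      rw [← heq, Subgroup.mem_subgroupOf] at hs'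
      exact hs'
  have h2 := hmax.2 _ h1
  rw [Subgroup.subgroupOf_eq_top] at h2
  exact le_antisymm hSM h2

/-- If the only primitive groups of degree `n` are the giants, then a group acting on the cosets
of a maximal subgroup of index `n` induces every 3-cycle. -/
theorem three_cycle_of_giant9 {G : Type*} [Group G] [Finite G] (n : ℕ)
    (hA : ∀ P : Subgroup (Equiv.Perm (Fin n)), MulAction.IsPreprimitive P (Fin n) →
      alternatingGroup (Fin n) ≤ P)
    (M : Subgroup G) (hM : IsCoatom M) (hn : M.index = n) (a b c : G ⧸ M) (hab : a ≠ b)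
    (hbc : b ≠ c) (hac : a ≠ c) :
    ∃ g : G, g • a = b ∧ g • b = c ∧ ∀ t, t ≠ a → t ≠ b → t ≠ c → g • t = t := by
  classical
  haveI : Nontrivial (G ⧸ M) := ⟨⟨a, b, hab⟩⟩
  haveI : Fintype (G ⧸ M) := Fintype.ofFinite _
  have hstab : MulAction.stabilizer G ((1 : G) : G ⧸ M) = M := MulAction.stabilizer_quotient M
  haveI hprim : MulAction.IsPreprimitive G (G ⧸ M) := by
    rw [← MulAction.isCoatom_stabilizer_iff_preprimitive G ((1 : G) : G ⧸ M), hstab]
    exact hM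
  have hcard : Nat.card (G ⧸ M) = n := hn
  let e : (G ⧸ M) ≃ Fin n := Finite.equivFinOfCardEq hcard
  let ψ : G →* Equiv.Perm (Fin n) :=
    (e.permCongrHom.toMonoidHom).comp (MulAction.toPermHom G (G ⧸ M))
  let P : Subgroup (Equiv.Perm (Fin n)) := ψ.range
  let θ : G → P := fun g => ⟨ψ g, ⟨g, rfl⟩⟩
  let f : (G ⧸ M) →ₑ[θ] Fin n :=
    { toFun := e
      map_smul' := by
        intro g x
        show e (g • x) = (ψ g) (e x)
        simp [ψ, Equiv.permCongrHom, Equiv.permCongr_apply] }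
  have hP : MulAction.IsPreprimitive P (Fin n) :=
    MulAction.IsPreprimitive.of_surjective (f := f) e.surjective
  have hAP := hA P hP
  let τ : Equiv.Perm (G ⧸ M) := Equiv.swap a b * Equiv.swap b c
  have hτ : e.permCongrHom τ ∈ alternatingGroup (Fin n) := by
    rw [Equiv.Perm.mem_alternatingGroup]
    show Equiv.Perm.sign (e.permCongr τ) = 1
    rw [Equiv.Perm.sign_permCongr]
    simp [τ, Equiv.Perm.sign_swap hab, Equiv.Perm.sign_swap hbc]
  obtain ⟨g, hg⟩ := hAP hτ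
  have hg' : MulAction.toPermHom G (G ⧸ M) g = τ := e.permCongrHom.injective hg
  have hgx : ∀ x : G ⧸ M, g • x = τ x := by
    intro x
    rw [← hg']
    rfl
  refine ⟨g, ?_, ?_, ?_⟩
  · rw [hgx]
    show Equiv.swap a b (Equiv.swap b c a) = b
    rw [Equiv.swap_apply_of_ne_of_ne hab hac, Equiv.swap_apply_left]
  · rw [hgx]
    show Equiv.swap a b (Equiv.swap b c b) = c
    rw [Equiv.swap_apply_left, Equiv.swap_apply_of_ne_of_ne (Ne.symm hac) (Ne.symm hbc)]
  · intro t hta htb htc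
    rw [hgx]
    show Equiv.swap a b (Equiv.swap b c t) = t
    rw [Equiv.swap_apply_of_ne_of_ne htb htc, Equiv.swap_apply_of_ne_of_ne hta htb]

/-- The combinatorial core of S5885: if the action on the cosets of the maximal subgroup `M` of
odd index induces all 3-cycles, every maximal subgroup of `M` is maximal in each maximal
subgroup containing it. -/
theorem second_max_of_three_cycles9 {G : Type*} [Group G] [Finite G] (n : ℕ) (hodd : Odd n)
    (M : Subgroup G) (hM : IsCoatom M) (hn : M.index = n)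
    (h3 : ∀ a b c : G ⧸ M, a ≠ b → b ≠ c → a ≠ c →
      ∃ g : G, g • a = b ∧ g • b = c ∧ ∀ t, t ≠ a → t ≠ b → t ≠ c → g • t = t)
    (H : Subgroup G) (hHM : H ≤ M)
    (hmax : IsCoatom (H.subgroupOf M)) (K : Subgroup G) (hK : IsCoatom K) (hHK : H ≤ K) :
    IsCoatom (H.subgroupOf K) := by
  classical
  by_cases hKM : K = M
  · subst hKM
    exact hmax
  haveI : Fintype (G ⧸ M) := Fintype.ofFinite _
  -- `H = K ⊓ M`
  have hKMH : K ⊓ M ≤ H := by
    by_contra hcon
    have hS := coatom_subgroupOf_elim9 hmax (le_inf hHK hHM) inf_le_right hcon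
    have hMK : M ≤ K := by
      rw [← hS]; exact inf_le_left
    exact hK.1 (hM.2 K (lt_of_le_of_ne hMK (Ne.symm hKM)))
  set ω₀ : G ⧸ M := ((1 : G) : G ⧸ M) with hω₀
  have hstab : ∀ g : G, g ∈ M ↔ g • ω₀ = ω₀ := by
    intro g
    rw [← MulAction.mem_stabilizer_iff, MulAction.stabilizer_quotient]
  have hne : H ≠ K := by
    intro hHKeq
    have hKleM : K ≤ M := hHKeq ▸ hHM
    exact hM.1 (hK.2 M (lt_of_le_of_ne hKleM hKM))
  refine coatom_subgroupOf_of9 hHK hne ?_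
  intro L hHL hLK hLH
  by_contra hLKne
  obtain ⟨l, hlL, hlH⟩ := SetLike.exists_of_lt (lt_of_le_of_ne hHL (Ne.symm hLH))
  obtain ⟨k, hkK, hkL⟩ := SetLike.exists_of_lt (lt_of_le_of_ne hLK hLKne)
  have hlM : l ∉ M := fun hlM => hlH (hKMH ⟨hLK hlL, hlM⟩)
  set Γ : Set (G ⧸ M) := {x | ∃ l ∈ L, l • ω₀ = x} with hΓ
  have hω₀Γ : ω₀ ∈ Γ := ⟨1, L.one_mem, one_smul _ _⟩
  have hLΓ : ∀ l ∈ L, ∀ x ∈ Γ, l • x ∈ Γ := by
    rintro l' hl' _ ⟨l₁, hl₁, rfl⟩
    exact ⟨l' * l₁, L.mul_mem hl' hl₁, mul_smul _ _ _⟩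
  -- block property
  have hblock : ∀ g ∈ K, ∀ x ∈ Γ, g • x ∈ Γ → g ∈ L := by
    rintro g hg _ ⟨l₁, hl₁, rfl⟩ ⟨l₂, hl₂, h12⟩
    have h1 : (l₂⁻¹ * g * l₁) • ω₀ = ω₀ := by
      rw [mul_smul, mul_smul, ← h12, inv_smul_smul]
    have h2 : l₂⁻¹ * g * l₁ ∈ H :=
      hKMH ⟨K.mul_mem (K.mul_mem (K.inv_mem (hLK hl₂)) hg) (hLK hl₁), (hstab _).mpr h1⟩
    have h3' : g = l₂ * (l₂⁻¹ * g * l₁) * l₁⁻¹ := by group
    rw [h3']
    exact L.mul_mem (L.mul_mem hl₂ (hHL h2)) (L.inv_mem hl₁)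
  set γ : G ⧸ M := l • ω₀ with hγ
  have hγΓ : γ ∈ Γ := ⟨l, hlL, rfl⟩
  have hγω : γ ≠ ω₀ := fun h => hlM ((hstab l).mpr h)
  set x : G ⧸ M := k • ω₀ with hx
  set y : G ⧸ M := k • γ with hy
  have hxΓ : x ∉ Γ := fun h => hkL (hblock k hkK ω₀ hω₀Γ h)
  have hyΓ : y ∉ Γ := fun h => hkL (hblock k hkK γ hγΓ h)
  have hxy : x ≠ y := by
    intro h
    exact hγω ((MulAction.injective k h).symm)
  -- a point outside `Γ ∪ k Γ`
  obtain ⟨z, hzΓ, hzk⟩ : ∃ z : G ⧸ M, z ∉ Γ ∧ ∀ t ∈ Γ, k • t ≠ z := by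
    by_contra hcon
    push_neg at hcon
    set Γf : Finset (G ⧸ M) := Finset.univ.filter (fun t => t ∈ Γ) with hΓf
    have hdisj : Disjoint Γf (Γf.image (fun t => k • t)) := by
      rw [Finset.disjoint_left]
      intro t ht ht'
      rw [Finset.mem_image] at ht'
      obtain ⟨s, hs, rfl⟩ := ht'
      rw [hΓf, Finset.mem_filter] at ht hs
      exact hkL (hblock k hkK s hs.2 ht.2)
    have hunion : Γf ∪ Γf.image (fun t => k • t) = Finset.univ := by
      rw [Finset.eq_univ_iff_forall]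
      intro t
      rw [Finset.mem_union]
      by_cases ht : t ∈ Γ
      · left
        rw [hΓf, Finset.mem_filter]
        exact ⟨Finset.mem_univ _, ht⟩
      · right
        obtain ⟨s, hs, hst⟩ := hcon t ht
        rw [Finset.mem_image]
        exact ⟨s, by rw [hΓf, Finset.mem_filter]; exact ⟨Finset.mem_univ _, hs⟩, hst⟩
    have hcard : Fintype.card (G ⧸ M) = 2 * Γf.card := by
      rw [← Finset.card_univ, ← hunion, Finset.card_union_of_disjoint hdisj,
        Finset.card_image_of_injective _ (MulAction.injective k)]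
      ring
    have hn' : Fintype.card (G ⧸ M) = n := by
      rw [← Nat.card_eq_fintype_card]; exact hn
    rw [hn'] at hcard
    rw [hcard] at hodd
    exact (Nat.not_even_iff_odd.mpr hodd) (even_two_mul _)
  have hzx : x ≠ z := fun h => hzk ω₀ hω₀Γ h
  have hzy : y ≠ z := fun h => hzk γ hγΓ h
  -- the stabiliser of `Γ` in `M`
  let S : Subgroup G :=
    { carrier := {g | g ∈ M ∧ ∀ t, t ∈ Γ ↔ g • t ∈ Γ}
      one_mem' := ⟨M.one_mem, fun t => by rw [one_smul]⟩
      mul_mem' := by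
        rintro g₁ g₂ ⟨h1, h1'⟩ ⟨h2, h2'⟩
        refine ⟨M.mul_mem h1 h2, fun t => ?_⟩
        rw [mul_smul, ← h1', ← h2']
      inv_mem' := by
        rintro g ⟨h1, h1'⟩
        refine ⟨M.inv_mem h1, fun t => ?_⟩
        rw [h1' (g⁻¹ • t), smul_inv_smul] }
  have hSmem : ∀ g : G, g ∈ S ↔ g ∈ M ∧ ∀ t, t ∈ Γ ↔ g • t ∈ Γ := fun g => Iff.rfl
  have hHS : H ≤ S := by
    intro h hh
    rw [hSmem]
    refine ⟨hHM hh, fun t => ⟨fun ht => hLΓ h (hHL hh) t ht, fun ht => ?_⟩⟩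
    have := hLΓ h⁻¹ (L.inv_mem (hHL hh)) _ ht
    rwa [inv_smul_smul] at this
  have hSM : S ≤ M := fun g hg => ((hSmem g).mp hg).1
  by_cases hSH : S ≤ H
  · -- the 3-cycle `(x y z)`
    obtain ⟨g, hgx, hgy, hgt⟩ := h3 x y z hxy hzy hzx
    have hgΓ : ∀ t ∈ Γ, g • t = t := by
      intro t ht
      exact hgt t (fun h => hxΓ (h ▸ ht)) (fun h => hyΓ (h ▸ ht)) (fun h => hzΓ (h ▸ ht))
    have hgS : g ∈ S := by
      rw [hSmem]
      refine ⟨(hstab g).mpr (hgΓ ω₀ hω₀Γ), fun t => ⟨fun ht => by rw [hgΓ t ht]; exact ht,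
        fun ht => ?_⟩⟩
      have h1 := hgΓ _ ht
      have h2 : g • t = t := MulAction.injective g h1
      rw [← h2]; exact ht
    have hgK : g ∈ K := hHK (hSH hgS)
    have hconj : k⁻¹ * g * k ∈ L := by
      apply hblock _ (K.mul_mem (K.mul_mem (K.inv_mem hkK) hgK) hkK) ω₀ hω₀Γ
      have : (k⁻¹ * g * k) • ω₀ = γ := by
        rw [mul_smul, mul_smul, ← hx, hgx, hy, inv_smul_smul]
      rw [this]; exact hγΓ
    have h4 := hLΓ _ hconj γ hγΓ
    have h5 : (k⁻¹ * g * k) • γ = k⁻¹ • z := by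
      rw [mul_smul, mul_smul, ← hy, hgy]
    rw [h5] at h4
    exact hzk _ h4 (smul_inv_smul k z)
  · -- the 3-cycle `(γ x y)`
    have hSeq := coatom_subgroupOf_elim9 hmax hHS hSM hSH
    have hγx : γ ≠ x := fun h => hxΓ (h ▸ hγΓ)
    have hγy : γ ≠ y := fun h => hyΓ (h ▸ hγΓ)
    obtain ⟨g, hgγ, hgx, hgt⟩ := h3 γ x y hγx hxy hγy
    have hgω : g • ω₀ = ω₀ :=
      hgt ω₀ (Ne.symm hγω) (fun h => hxΓ (h ▸ hω₀Γ)) (fun h => hyΓ (h ▸ hω₀Γ))
    have hgS : g ∈ S := by
      rw [hSeq]; exact (hstab g).mpr hgω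
    have h6 := ((hSmem g).mp hgS).2 γ
    rw [hgγ] at h6
    exact hxΓ (h6.mp hγΓ)

end Cfsg.Agent.Helper9
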