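import Mathlib

set_option autoImplicit false

namespace Cfsg.Agent.Helper9

open scoped Pointwise

variable {G : Type*} [Group G]

/-- Any `p`-subgroup is conjugate into a given Sylow `p`-subgroup. -/
theorem exists_conj_mem_sylow9 [Finite G] {p : ℕ} [Fact p.Prime] (P : Sylow p G) {Q : Subgroup G}
    (hQ : IsPGroup p Q) : ∃ g : G, ∀ q ∈ Q, g * q * g⁻¹ ∈ P := by
  obtain ⟨R, hR⟩ := hQ.exists_le_sylow
  obtain ⟨g, hg⟩ := MulAction.exists_smul_eq G R P
  refine ⟨g, fun q hq => ?_⟩
  have h1 : MulAut.conj g • q ∈ MulAut.conj g • (R : Subgroup G) :=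
    Subgroup.smul_mem_pointwise_smul _ _ _ (hR hq)
  rw [← Sylow.coe_subgroup_smul, hg] at h1
  have h2 : g * q * g⁻¹ ∈ (P : Subgroup G) := by
    simpa [MulAut.smul_def, MulAut.conj_apply] using h1
  exact h2

/-- A group generated by pairwise commuting involutions is a 2-group. -/
theorem isPGroup_two_closure_of_commute {E : Set G} (hinv : ∀ e ∈ E, e * e = 1)
    (hcomm : ∀ a ∈ E, ∀ b ∈ E, a * b = b * a) : IsPGroup 2 (Subgroup.closure E) := by
  have hsq : ∀ x ∈ Subgroup.closure E, x * x = 1 ∧ ∀ e ∈ E, x * e = e * x := by
    intro x hx
    induction hx using Subgroup.closure_induction with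
    | mem x hx => exact ⟨hinv x hx, fun e he => hcomm x hx e he⟩
    | one => exact ⟨by simp, fun e _ => by simp⟩
    | mul x y hx hy ihx ihy =>
      have hxy : x * y = y * x := by
        -- y is in the closure of E, x commutes with all of E
        have : y ∈ Subgroup.centralizer {x} := by
          have hle : Subgroup.closure E ≤ Subgroup.centralizer {x} := by
            rw [Subgroup.closure_le]
            intro e he
            rw [SetLike.mem_coe, Subgroup.mem_centralizer_iff]
            intro z hz
            rw [Set.mem_singleton_iff] at hz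
            rw [hz]
            exact ihx.2 e he
          exact hle hy
        rw [Subgroup.mem_centralizer_iff] at this
        exact this x rfl
      refine ⟨?_, fun e he => ?_⟩
      · calc x * y * (x * y) = x * (y * x) * y := by group
          _ = x * (x * y) * y := by rw [hxy]
          _ = (x * x) * (y * y) := by group
          _ = 1 := by rw [ihx.1, ihy.1, one_mul]
      · calc x * y * e = x * (y * e) := by group
          _ = x * (e * y) := by rw [ihy.2 e he]
          _ = (x * e) * y := by group
          _ = e * x * y := by rw [ihx.2 e he]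
          _ = e * (x * y) := by group
    | inv x hx ih =>
      have hxi : x⁻¹ = x := inv_eq_of_mul_eq_one_left ih.1
      rw [hxi]
      exact ih
  intro g
  refine ⟨1, ?_⟩
  apply Subtype.ext
  have := (hsq g.1 g.2).1
  simp [pow_two, this]

end Cfsg.Agent.Helper9
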