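import Mathlib
import Cfsg.Agent.Helper9.SylowConj

/-!
# Sylow 2-subgroups of the symmetric group of degree 8 meet nontrivially

Helper for S5763.  The standard Sylow 2-subgroup `syl8` is the stabiliser of the tree structure
`{{0,1},{2,3}},{{4,5},{6,7}}`; a table of 315 coset representatives and a witness for each
coset prove that `syl8 ∩ w syl8 w⁻¹ ≠ 1` for every `w`.
-/

namespace Cfsg.Agent.Helper9

/-- Label of a pair of points in the standard tree structure on 8 points. -/
def lab8 (a b : Fin 8) : ℕ :=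
  if a.val / 2 = b.val / 2 then 0 else if a.val / 4 = b.val / 4 then 1 else 2

/-- A self-map of the 8 points preserves the tree structure. -/
def pres8 (f : Fin 8 → Fin 8) : Prop := ∀ a b : Fin 8, lab8 (f a) (f b) = lab8 a b

/-- Boolean version of `pres8`. -/
def presB8 (f : Fin 8 → Fin 8) : Bool :=
  (List.finRange 8).all fun a => (List.finRange 8).all fun b => lab8 (f a) (f b) == lab8 a b

theorem presB8_iff (f : Fin 8 → Fin 8) : presB8 f = true ↔ pres8 f := by
  simp [presB8, pres8, List.all_eq_true]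

/-- The standard Sylow 2-subgroup of the symmetric group of degree 8. -/
def syl8 : Subgroup (Equiv.Perm (Fin 8)) where
  carrier := {y | pres8 y}
  one_mem' := fun a b => rfl
  mul_mem' := by
    intro x y hx hy a b
    show lab8 (x (y a)) (x (y b)) = lab8 a b
    rw [hx, hy]
  inv_mem' := by
    intro x hx a b
    have h := hx (x⁻¹ a) (x⁻¹ b)
    rw [Equiv.Perm.inv_def, Equiv.apply_symm_apply, Equiv.apply_symm_apply] at h
    rw [Equiv.Perm.inv_def]
    exact h.symm

theorem mem_syl8 (y : Equiv.Perm (Fin 8)) : y ∈ syl8 ↔ pres8 y := Iff.rfl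

theorem lab8_blk (a b : Fin 8) : lab8 a b = 2 ↔ a.val / 4 ≠ b.val / 4 := by
  revert a b
  decide

theorem lab8_pair (a b : Fin 8) : lab8 a b = 0 ↔ a.val / 2 = b.val / 2 := by
  revert a b
  decide

theorem pres8_sq_blk {y : Equiv.Perm (Fin 8)} (hy : pres8 y) (a : Fin 8) :
    (y (y a)).val / 4 = a.val / 4 := by
  have h1 := hy (y a) a
  have h2 := lab8_blk (y (y a)) (y a)
  have h3 := lab8_blk (y a) a
  have ha := a.isLt
  have hb := (y a).isLt
  have hc := (y (y a)).isLt
  by_cases h : (y a).val / 4 = a.val / 4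
  · have h4 : lab8 (y a) a ≠ 2 := fun h5 => (h3.mp h5) h
    have h5 : ¬ ((y (y a)).val / 4 ≠ (y a).val / 4) := fun h6 => h4 (h1 ▸ h2.mpr h6)
    omega
  · have h4 : lab8 (y (y a)) (y a) = 2 := by rw [h1]; exact h3.mpr h
    have h5 := h2.mp h4
    omega

theorem pres8_sq_pair {z : Equiv.Perm (Fin 8)} (hz : pres8 z)
    (hblk : ∀ a : Fin 8, (z a).val / 4 = a.val / 4) (a : Fin 8) :
    (z (z a)).val / 2 = a.val / 2 := by
  have h1 := hz (z a) a
  have h2 := lab8_pair (z (z a)) (z a)
  have h3 := lab8_pair (z a) a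
  have hb1 := hblk a
  have hb2 := hblk (z a)
  have ha := a.isLt
  have hb := (z a).isLt
  have hc := (z (z a)).isLt
  by_cases h : (z a).val / 2 = a.val / 2
  · have h4 : lab8 (z (z a)) (z a) = 0 := by rw [h1]; exact h3.mpr h
    have h5 := h2.mp h4
    omega
  · have h4 : ¬ ((z (z a)).val / 2 = (z a).val / 2) := by
      intro h5
      exact h (h3.mp (h1 ▸ h2.mpr h5))
    omega

theorem pres8_sq_pt {u : Equiv.Perm (Fin 8)}
    (hpair : ∀ a : Fin 8, (u a).val / 2 = a.val / 2) (a : Fin 8) : u (u a) = a := by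
  by_cases h : u a = a
  · rw [h, h]
  · have h1 : u (u a) ≠ u a := fun h2 => h (u.injective h2)
    have h2 := hpair a
    have h3 := hpair (u a)
    have h4 : (u a).val ≠ a.val := fun h5 => h (Fin.ext h5)
    have h5 : (u (u a)).val ≠ (u a).val := fun h6 => h1 (Fin.ext h6)
    apply Fin.ext
    omega

theorem syl8_pow_eight {y : Equiv.Perm (Fin 8)} (hy : y ∈ syl8) : y ^ 8 = 1 := by
  have hz : y * y ∈ syl8 := syl8.mul_mem hy hy
  have hu : y * y * (y * y) ∈ syl8 := syl8.mul_mem hz hz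
  have h1 : ∀ a : Fin 8, ((y * y) a).val / 4 = a.val / 4 := fun a => pres8_sq_blk hy a
  have h2 : ∀ a : Fin 8, ((y * y * (y * y)) a).val / 2 = a.val / 2 :=
    fun a => pres8_sq_pair hz h1 a
  have h3 : (y * y * (y * y)) * (y * y * (y * y)) = 1 := by
    ext a
    have := pres8_sq_pt h2 a
    simpa using congrArg Fin.val this
  have h4 : y ^ 8 = (y * y * (y * y)) * (y * y * (y * y)) := by
    simp only [pow_succ, pow_zero, one_mul, mul_assoc]
  rw [h4, h3]

theorem syl8_isPGroup : IsPGroup 2 syl8 := by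
  intro g
  refine ⟨3, ?_⟩
  apply Subtype.ext
  rw [Subgroup.coe_pow]
  exact syl8_pow_eight g.2

/-- The `i`-th transposition factor of the permutation with code `n`. -/
def sw8 (n i : ℕ) (hi : i < 8) : Equiv.Perm (Fin 8) :=
  Equiv.swap ⟨i, hi⟩ ⟨(n / 8 ^ i) % 8, Nat.mod_lt _ (by norm_num)⟩

/-- The permutation with code `n` (a product of seven transpositions). -/
def codePerm8 (n : ℕ) : Equiv.Perm (Fin 8) :=
  sw8 n 0 (by norm_num) * (sw8 n 1 (by norm_num) * (sw8 n 2 (by norm_num) *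
    (sw8 n 3 (by norm_num) * (sw8 n 4 (by norm_num) * (sw8 n 5 (by norm_num) *
      sw8 n 6 (by norm_num))))))

def reps8 : List ℕ := [1754760, 2054353, 2097151, 2054352, 1829658, 2097103, 2091801, 1754767, 1754768, 2063862, 2091800, 2030946, 1754815, 1797558, 1754769, 2054297, 2063822, 1801149, 2096481, 2054359, 2096482, 1769387, 2054344, 2097150, 1797518, 2088829, 2054362, 2097096, 2054296, 2091746, 2056109, 2056125, 1789812, 2096480, 2027434, 2016910, 1802155, 2026265, 1829364, 1829649, 1797566, 1793397, 1754775, 2030573, 2054298, 2091683, 1829601, 1801515, 2056077, 2084220, 1800564, 2091807, 1828851, 2016950, 1760109, 2056107, 2058740, 2026264, 1822196, 1829648, 1768794, 1755135, 2087404, 1755095, 2030541, 2062780, 1755089, 2096364, 1829600, 2096426, 1768747, 2063830, 2096500, 2092843, 2026271, 1824982, 1830387, 2084668, 2054351, 1835005, 1760077, 1833460, 2022754, 2051572, 2023293, 2030945, 1824983, 2030461, 1767339, 1801561, 1801562, 1834915, 1755087, 2054280,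 2083820, 2054360, 2097102, 1797526, 2052004, 2052028, 1802099, 1755088, 2030828, 2054303, 2030890, 1757044, 2026210, 1830870, 1826237, 2027307, 2030944, 2054358, 2095420, 1768874, 2054399, 1760125, 1789236, 2016918, 2063860, 2095997, 1800107, 2092970, 1759447, 2082446, 2088957, 1796022, 1768363, 1801560, 2060194, 2059025, 2054288, 2097142, 1764213, 1832867, 2054361, 1829537, 1764269, 2051980, 2088941, 1800051, 1797519, 1761077, 2026147, 1769331, 2058977, 1765236, 1768381, 2058978, 2097119, 1767796, 2055394, 1826729, 2021590, 1820301, 2084860, 1759085, 1801130, 1797985, 1829640, 2017206, 2086891, 2017174, 2054059, 2023421, 1763254, 1801131, 1797986, 1826730, 2058227, 1787534, 2082486, 1792877, 1834292, 2052084, 1829730, 2059024, 2054289, 2091673, 1830845, 1793461, 1833379, 2027354, 1829666, 1829536, 1801450, 1764237, 2029948, 2030549, 2088909, 1801587, 1797567, 1797941, 1801598, 2058915, 1824986, 2027379, 1833404, 2058976, 1824920, 2026795, 2094815, 2030964, 2022626, 2060274,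 2059039, 1754765, 1820333, 1758893, 2063603, 1759053, 2017422, 2064371, 2091361, 2017166, 2087915, 2054367, 1834957, 2055083, 1761122, 2063668, 1763214, 1822708, 2059106, 1832947, 2059763, 2019132, 2087789, 1824975, 1792845, 2029437, 1768793, 1755080, 2091672, 1763700, 2092890, 1801387, 1768682, 2064179, 2019172, 2019196, 2088917, 1795990, 2062756, 1822140, 2088830, 2055550, 2018540, 2018602, 1822652, 1824927, 2055613, 2060075, 1834482, 2054350, 1802236, 2017430, 2017462, 2091360, 2054295, 1796404, 1792479, 1830900, 1833826, 1788055, 2023405, 2094973, 2025826, 1826585, 2031420, 2029884, 1801642, 2087757, 1825023, 2082454, 1834209, 1756532, 2022673, 1768619, 2051828, 2058913, 2019148, 2062131, 2062732, 1795734, 2090875, 1759391, 1801661, 1764595, 2017686, 1832957, 1755094, 2021245, 2092825, 1788375, 2023373, 2021373, 1763766, 1826584, 1791853, 1768362, 2082710, 2022672, 2058912, 2092923, 2092824, 1821400, 1833380, 2025825, 2084055, 1824991, 1767777, 2022561, 2025824, 1759711,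 2022560]
def wits8 : List ℕ := [2016904, 1757100, 1757100, 1757100, 2016904, 1757100, 1758856, 1758856, 2016904, 2016904, 1758856, 1757100, 1758856, 1757100, 2016904, 1757100, 2016904, 1757100, 2016904, 2016904, 1757100, 1758856, 1754761, 1799880, 1757100, 1758856, 1754761, 1754761, 1757100, 2016904, 1754824, 1757100, 2016904, 2016904, 1758856, 1758856, 1754824, 1754824, 1757100, 1758856, 1799880, 1758856, 1758856, 1758856, 1754761, 2016904, 1758856, 1757100, 1754824, 2016904, 2016904, 1754824, 2016904, 1758856, 2016904, 1754824, 1757100, 1754824, 1757100, 1758856, 1799880, 1758856, 1754761, 1758856, 1758856, 1757100, 1758856, 1754761, 1758856, 1757100, 1757100, 2016904, 2016904, 1757100, 1754824, 2016904, 2016904, 1758856, 1799881, 1799881, 2016904, 1758856, 1758856, 1757100, 1754824, 1756652, 1828499, 1758920, 2021065, 1799881, 1799880, 1758856, 1758856, 1754761, 1754761, 1757093, 1799834, 1754824, 1754824, 1757100, 1758856, 1758856, 1754761, 2016904, 1757100, 2021000,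 1828488, 2016904, 1758856, 1757100, 1756652, 1828499, 1758920, 2021065, 1799881, 1799881, 1758856, 1758856, 1758856, 1828553, 1828553, 1754824, 1828499, 1754824, 1758920, 1757100, 2021065, 1799881, 1758856, 1754824, 1757093, 1799834, 1758920, 2021065, 1757093, 1758856, 1758856, 1754824, 1828553, 1828553, 1799834, 2021000, 1828488, 1755511, 1828506, 2021000, 1757100, 1828488, 1756652, 1755511, 1828506, 1754824, 1828499, 1754824, 1758920, 2016904, 2021065, 2016904, 2016904, 1758856, 1799881, 1758856, 1828553, 1828553, 1757100, 1828553, 1757100, 1754824, 1828499, 1754824, 1754824, 1756652, 1754824, 1758856, 1758856, 1754824, 1757093, 1758856, 1758856, 1758920, 2021065, 1799880, 1758856, 1758856, 1799834, 1758856, 1757093, 1799881, 1828553, 1828553, 1799834, 2021000, 1754761, 1828488, 1754761, 1755511, 1757100, 1828506, 1757100, 1758856, 1756652, 1755511, 1828506, 1828499, 2016904, 2016904, 1754824, 2016904, 2016904, 2016904, 2021065, 2016904, 2016904, 1758856, 1799881, 1828553,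 1828553, 1828553, 1758856, 1754824, 1757100, 1757093, 1828499, 1828499, 1828499, 1754824, 1756652, 1799881, 1756652, 1758920, 1799881, 1758856, 1758856, 1757093, 1799880, 1799834, 1799834, 1758856, 1755518, 1757093, 1799881, 1756652, 1799834, 1758856, 1758856, 1758856, 1758856, 1758856, 1757100, 1828499, 1757093, 2016904, 1828499, 1799881, 1799881, 1828553, 2021065, 2016904, 1828553, 1758920, 1828553, 1757093, 1828499, 2021065, 2021065, 1828553, 1828499, 1828553, 1754824, 1828553, 1828553, 1756652, 1799881, 1755511, 1828553, 1757093, 1828553, 1799834, 1758856, 1828506, 1755518, 1828553, 1799834, 1756652, 1828553, 1828499, 1757093, 1754824, 1828553, 1799881, 2016904, 1828553, 1828553, 2021065, 2021065, 1828553, 1828499, 1828553, 1756652, 1828553, 1755511, 1828553, 1828506, 1828553, 1828553, 1757093, 1799834, 1828488, 1828488, 2021065, 1828488, 2021065, 1828488, 2021065, 2021065]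
def nxtS8 : List ℕ := [0, 3, 5, 1, 4, 2, 10, 12, 14, 16, 6, 20, 7, 24, 8, 28, 9, 31, 33, 19, 11, 21, 22, 40, 13, 25, 44, 27, 15, 29, 48, 17, 32, 18, 34, 53, 55, 57, 58, 59, 23, 41, 63, 64, 26, 45, 68, 70, 30, 49, 72, 74, 76, 35, 80, 36, 83, 37, 38, 39, 90, 92, 94, 42, 43, 99, 101, 102, 46, 104, 47, 107, 50, 109, 51, 75, 52, 77, 114, 115, 54, 118, 82, 56, 84, 110, 122, 124, 126, 127, 60, 91, 61, 93, 62, 134, 131, 97, 137, 65, 100, 66, 67, 103, 69, 145, 147, 71, 108, 73, 85, 152, 154, 156, 78, 79, 116, 161, 81, 163, 165, 167, 86, 170, 87, 166, 88, 89, 128, 175, 176, 96, 179, 180, 95, 183, 185, 98, 188, 189, 190, 191, 193, 195, 197, 105, 198, 106, 200, 201, 202, 192, 111, 206, 112, 209, 113, 169, 158, 213, 214, 117, 217, 119, 220, 120, 125, 121, 224, 157, 123, 228, 172, 173, 182, 129, 130, 232, 194, 132, 133, 234, 174, 135, 236, 136, 239, 240, 138, 139, 140, 141, 151, 142, 178, 143, 248, 144, 146, 199, 148, 149, 150, 252, 204, 207, 153, 205, 208, 155, 256, 211, 257, 159,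 160, 260, 253, 162, 218, 219, 164, 261, 266, 262, 168, 225, 271, 272, 171, 259, 258, 231, 177, 275, 181, 277, 184, 237, 280, 186, 187, 283, 282, 243, 245, 244, 246, 247, 196, 285, 286, 251, 203, 216, 269, 288, 210, 212, 230, 229, 215, 221, 223, 293, 294, 295, 222, 297, 268, 254, 299, 226, 227, 300, 281, 233, 301, 235, 278, 302, 238, 274, 242, 241, 303, 249, 250, 287, 255, 291, 290, 289, 304, 263, 264, 265, 306, 267, 305, 270, 273, 276, 279, 284, 292, 298, 296, 312, 310, 313, 308, 314, 307, 309, 311]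
def nxtC8 : List ℕ := [1, 4, 0, 6, 2, 8, 11, 3, 15, 5, 18, 21, 22, 7, 26, 29, 27, 9, 34, 10, 36, 38, 39, 12, 42, 13, 45, 14, 46, 47, 16, 37, 17, 48, 52, 19, 56, 20, 25, 60, 61, 23, 28, 24, 40, 67, 69, 32, 71, 30, 31, 33, 77, 78, 35, 81, 84, 85, 87, 89, 91, 93, 41, 95, 97, 43, 44, 49, 72, 100, 105, 82, 108, 50, 110, 51, 112, 54, 59, 53, 117, 75, 55, 119, 73, 121, 57, 125, 58, 128, 80, 62, 130, 98, 132, 135, 63, 66, 64, 138, 65, 134, 141, 68, 143, 146, 70, 148, 129, 149, 151, 74, 155, 76, 158, 159, 79, 103, 115, 164, 83, 168, 107, 86, 157, 88, 173, 137, 160, 90, 177, 92, 174, 94, 182, 184, 96, 187, 166, 99, 101, 192, 102, 196, 104, 194, 106, 199, 167, 198, 109, 203, 204, 111, 207, 210, 211, 113, 114, 127, 116, 215, 118, 170, 139, 221, 120, 223, 225, 122, 227, 123, 124, 229, 126, 230, 205, 202, 131, 212, 208, 133, 235, 189, 237, 140, 136, 218, 241, 243, 231, 245, 147, 246, 142, 153, 150, 201, 144, 145, 244, 250, 251, 247, 200, 152, 253, 180, 154, 255, 172, 179, 156, 258,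 259, 183, 161, 261, 162, 163, 263, 265, 165, 268, 269, 171, 169, 175, 273, 181, 209, 176, 274, 178, 216, 278, 228, 186, 185, 267, 280, 270, 188, 276, 190, 193, 191, 195, 264, 197, 279, 233, 275, 213, 206, 219, 214, 272, 232, 289, 257, 291, 217, 248, 220, 296, 277, 222, 226, 298, 224, 283, 290, 249, 287, 286, 234, 271, 238, 236, 292, 239, 240, 285, 242, 252, 266, 254, 301, 256, 260, 282, 262, 305, 300, 303, 281, 307, 284, 308, 309, 295, 293, 288, 310, 311, 294, 299, 297, 302, 304, 306, 313, 312, 314]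
def nxtCi8 : List ℕ := [2, 0, 4, 7, 1, 9, 3, 13, 5, 17, 19, 6, 23, 25, 27, 8, 30, 32, 10, 35, 37, 11, 12, 41, 43, 38, 14, 16, 42, 15, 49, 50, 47, 51, 18, 54, 20, 31, 21, 22, 44, 62, 24, 65, 66, 26, 28, 29, 33, 67, 73, 75, 34, 79, 77, 82, 36, 86, 88, 78, 39, 40, 91, 96, 98, 100, 97, 45, 103, 46, 106, 48, 68, 84, 111, 81, 113, 52, 53, 116, 90, 55, 71, 120, 56, 57, 123, 58, 125, 59, 129, 60, 131, 61, 133, 63, 136, 64, 93, 139, 69, 140, 142, 117, 144, 70, 146, 122, 72, 150, 74, 153, 76, 157, 158, 118, 160, 80, 162, 83, 166, 85, 169, 171, 172, 87, 174, 159, 89, 108, 92, 178, 94, 181, 101, 95, 186, 127, 99, 164, 185, 102, 194, 104, 198, 199, 105, 192, 107, 109, 196, 110, 205, 195, 208, 112, 212, 124, 114, 115, 128, 216, 218, 219, 119, 222, 138, 148, 121, 226, 163, 225, 210, 126, 132, 227, 231, 130, 233, 211, 207, 229, 134, 215, 135, 238, 237, 137, 242, 183, 244, 246, 141, 245, 145, 247, 143, 249, 149, 147, 204, 197, 177, 151, 152, 176, 254, 154, 180, 230, 155, 156, 179, 253,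 256, 161, 234, 262, 187, 255, 264, 165, 267, 167, 270, 168, 268, 170, 236, 173, 175, 190, 258, 251, 276, 182, 279, 184, 278, 281, 282, 188, 284, 189, 200, 191, 193, 203, 263, 273, 201, 202, 285, 206, 287, 209, 289, 260, 213, 214, 290, 217, 292, 220, 248, 221, 286, 239, 223, 224, 241, 277, 257, 228, 232, 252, 243, 266, 235, 250, 240, 296, 291, 271, 298, 283, 275, 274, 303, 259, 272, 261, 280, 302, 306, 301, 265, 308, 269, 307, 294, 288, 309, 295, 310, 293, 311, 297, 299, 300, 304, 305, 313, 312, 314]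

/-- Coset representatives of `syl8`. -/
def rep8 (j : ℕ) : Equiv.Perm (Fin 8) := codePerm8 (reps8.getD j 0)

/-- For each coset representative `r`, a nonidentity element `y` of `syl8` with
`r y r⁻¹ ∈ syl8`. -/
def wit8 (j : ℕ) : Equiv.Perm (Fin 8) := codePerm8 (wits8.getD j 0)

/-- The transposition `(0 1)`. -/
def swp8 : Equiv.Perm (Fin 8) := codePerm8 1754761

/-- The 8-cycle `i ↦ i + 1`. -/
def cyc8 : Equiv.Perm (Fin 8) := codePerm8 2054353

/-- The inverse 8-cycle. -/
def cycInv8 : Equiv.Perm (Fin 8) := codePerm8 2097151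

set_option maxHeartbeats 4000000 in
theorem s8_stepS : ∀ j < 315, nxtS8.getD j 0 < 315 ∧
    presB8 ⇑((rep8 (nxtS8.getD j 0))⁻¹ * swp8 * rep8 j) = true := by
  decide +kernel

set_option maxHeartbeats 4000000 in
theorem s8_stepC : ∀ j < 315, nxtC8.getD j 0 < 315 ∧
    presB8 ⇑((rep8 (nxtC8.getD j 0))⁻¹ * cyc8 * rep8 j) = true := by
  decide +kernel

set_option maxHeartbeats 4000000 in
theorem s8_stepCi : ∀ j < 315, nxtCi8.getD j 0 < 315 ∧
    presB8 ⇑((rep8 (nxtCi8.getD j 0))⁻¹ * cycInv8 * rep8 j) = true := by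
  decide +kernel

set_option maxHeartbeats 4000000 in
theorem s8_wit : ∀ j < 315, ((List.finRange 8).any fun a => wit8 j a != a) = true ∧
    presB8 ⇑(wit8 j) = true ∧ presB8 ⇑(rep8 j * wit8 j * (rep8 j)⁻¹) = true := by
  decide +kernel

theorem s8_rep0 : presB8 ⇑((rep8 0)⁻¹) = true := by decide +kernel

theorem swp8_eq : swp8 = Equiv.swap (0 : Fin 8) (finRotate 8 0) := by
  ext a
  revert a
  decide +kernel

theorem cyc8_eq : cyc8 = finRotate 8 := by
  ext a
  revert a
  decide +kernel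

theorem cycInv8_eq : cycInv8 = (finRotate 8)⁻¹ := by
  rw [eq_inv_iff_mul_eq_one]
  ext a
  revert a
  decide +kernel

/-- `w` lies in one of the 315 listed cosets of `syl8`. -/
def Cov8 (w : Equiv.Perm (Fin 8)) : Prop := ∃ j < 315, (rep8 j)⁻¹ * w ∈ syl8

theorem cov8_step {g : Equiv.Perm (Fin 8)} {nxt : List ℕ}
    (h : ∀ j < 315, nxt.getD j 0 < 315 ∧ presB8 ⇑((rep8 (nxt.getD j 0))⁻¹ * g * rep8 j) = true)
    (w : Equiv.Perm (Fin 8)) (hw : Cov8 w) : Cov8 (g * w) := by
  obtain ⟨j, hj, hjw⟩ := hw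
  obtain ⟨h1, h2⟩ := h j hj
  refine ⟨nxt.getD j 0, h1, ?_⟩
  have h3 : (rep8 (nxt.getD j 0))⁻¹ * g * rep8 j ∈ syl8 := (presB8_iff _).mp h2
  have h4 : (rep8 (nxt.getD j 0))⁻¹ * (g * w)
      = ((rep8 (nxt.getD j 0))⁻¹ * g * rep8 j) * ((rep8 j)⁻¹ * w) := by group
  rw [h4]
  exact syl8.mul_mem h3 hjw

theorem cov8_all (w : Equiv.Perm (Fin 8)) : Cov8 w := by
  have hgen : Subgroup.closure ({finRotate 8, Equiv.swap (0 : Fin 8) (finRotate 8 0)} :
      Set (Equiv.Perm (Fin 8))) = ⊤ :=
    Equiv.Perm.closure_cycle_adjacent_swap (isCycle_finRotate_of_le (by norm_num))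
      (support_finRotate_of_le (by norm_num)) 0
  have hw : w ∈ Subgroup.closure ({finRotate 8, Equiv.swap (0 : Fin 8) (finRotate 8 0)} :
      Set (Equiv.Perm (Fin 8))) := by
    rw [hgen]; trivial
  have key : ∀ v : Equiv.Perm (Fin 8), Cov8 v → Cov8 (w * v) := by
    refine Subgroup.closure_induction'' (p := fun g _ => ∀ v : Equiv.Perm (Fin 8),
      Cov8 v → Cov8 (g * v)) ?_ ?_ ?_ ?_ hw
    · intro x hx v hv
      rcases hx with rfl | hx
      · rw [← cyc8_eq]
        exact cov8_step s8_stepC v hv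
      · rw [Set.mem_singleton_iff] at hx
        rw [hx, ← swp8_eq]
        exact cov8_step s8_stepS v hv
    · intro x hx v hv
      rcases hx with rfl | hx
      · rw [← cycInv8_eq]
        exact cov8_step s8_stepCi v hv
      · rw [Set.mem_singleton_iff] at hx
        rw [hx, Equiv.swap_inv, ← swp8_eq]
        exact cov8_step s8_stepS v hv
    · intro v hv
      rw [one_mul]; exact hv
    · intro x y _ _ hx hy v hv
      rw [mul_assoc]
      exact hx _ (hy v hv)
  have h1 : Cov8 1 := ⟨0, by norm_num, by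
    rw [mul_one]
    exact (presB8_iff _).mp s8_rep0⟩
  have := key 1 h1
  rwa [mul_one] at this

/-- Every conjugate of `syl8` meets `syl8` nontrivially. -/
theorem syl8_meet (w : Equiv.Perm (Fin 8)) :
    ∃ y ∈ syl8, y ≠ 1 ∧ w * y * w⁻¹ ∈ syl8 := by
  obtain ⟨j, hj, hjw⟩ := cov8_all w
  obtain ⟨h1, h2, h3⟩ := s8_wit j hj
  have hy : wit8 j ∈ syl8 := (presB8_iff _).mp h2
  have hc : rep8 j * wit8 j * (rep8 j)⁻¹ ∈ syl8 := (presB8_iff _).mp h3
  have hne : wit8 j ≠ 1 := by
    intro h
    rw [List.any_eq_true] at h1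
    obtain ⟨a, -, ha⟩ := h1
    rw [h] at ha
    simp at ha
  set h := (rep8 j)⁻¹ * w with hh
  refine ⟨h⁻¹ * wit8 j * h, syl8.mul_mem (syl8.mul_mem (syl8.inv_mem hjw) hy) hjw, ?_, ?_⟩
  · intro h4
    apply hne
    have : wit8 j = h * (h⁻¹ * wit8 j * h) * h⁻¹ := by group
    rw [this, h4]
    group
  · have : w * (h⁻¹ * wit8 j * h) * w⁻¹ = rep8 j * wit8 j * (rep8 j)⁻¹ := by
      rw [hh]; group
    rw [this]
    exact hc

/-- S5763: any two Sylow 2-subgroups of the symmetric group of degree 8 meet nontrivially. -/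
theorem sym8_sylow_meet (H : Sylow 2 (Equiv.Perm (Fin 8))) (x : Equiv.Perm (Fin 8)) :
    (H : Subgroup (Equiv.Perm (Fin 8))) ⊓
      (H : Subgroup (Equiv.Perm (Fin 8))).map (MulAut.conj x).toMonoidHom ≠ ⊥ := by
  obtain ⟨g, hg⟩ := exists_conj_mem_sylow9 H syl8_isPGroup
  obtain ⟨y, hy, hy1, hyw⟩ := syl8_meet (g⁻¹ * x * g)
  intro hbot
  have hmem : x * (g * y * g⁻¹) * x⁻¹ ∈ (H : Subgroup (Equiv.Perm (Fin 8))) ⊓
      (H : Subgroup (Equiv.Perm (Fin 8))).map (MulAut.conj x).toMonoidHom := by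
    refine ⟨?_, ⟨g * y * g⁻¹, hg y hy, rfl⟩⟩
    have h1 := hg _ hyw
    have h2 : g * (g⁻¹ * x * g * y * (g⁻¹ * x * g)⁻¹) * g⁻¹ = x * (g * y * g⁻¹) * x⁻¹ := by
      group
    rw [h2] at h1
    exact h1
  rw [hbot, Subgroup.mem_bot] at hmem
  apply hy1
  have : y = g⁻¹ * x⁻¹ * (x * (g * y * g⁻¹) * x⁻¹) * x * g := by group
  rw [this, hmem]
  group

end Cfsg.Agent.Helper9
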